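/-
Collection of words in positive root elements with monomial parameters in any number of variables,
in characteristic two, and comparison of the coordinates of collected words.
-/
import Cfsg.Agent.Lib.Lie.Rel.Checks
import Cfsg.Agent.Lib.Lie.Rel.Inst
import Cfsg.Agent.Lib.Lie.Rel.Simple

set_option autoImplicit false

namespace CfsgLib.Lie.Chev.MonCollect

open Cfsg.Lie (ChevalleyDatum)

/-- a term `(r, e)` stands for `x_r(v^e)` -/
abbrev Term := ℕ × List ℕ

/-- value of a monomial -/
def mon {F : Type*} [CommMonoid F] : List F → List ℕ → F
  | x :: v, k :: e => x ^ k * mon v e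
  | _, _ => 1

/-- sum of exponent vectors -/
def addE : List ℕ → List ℕ → List ℕ
  | a :: e, b :: f => (a + b) :: addE e f
  | [], f => f
  | e, [] => e

/-- multiple of an exponent vector -/
def smulE (k : ℕ) (e : List ℕ) : List ℕ := e.map (k * ·)

/-- lexicographic comparison -/
def ltE : List ℕ → List ℕ → Bool
  | a :: e, b :: f => Nat.blt a b || (Nat.beq a b && ltE e f)
  | [], _ :: _ => true
  | _, [] => false

/-- equality of exponent vectors -/
def beqE : List ℕ → List ℕ → Bool
  | a :: e, b :: f => Nat.beq a b && beqE e f
  | [], [] => true
  | _, _ => false

theorem eq_of_beqE : ∀ e f : List ℕ, beqE e f = true → e = f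
  | [], [], _ => rfl
  | a :: e, b :: f, h => by
    simp only [beqE, Bool.and_eq_true, nat_beq_iff] at h
    rw [h.1, eq_of_beqE e f h.2]
  | [], _ :: _, h => by simp [beqE] at h
  | _ :: _, [], h => by simp [beqE] at h

/-- distinct non-opposite roots -/
def canSwap (D : ChevalleyDatum) (x y : Term) : Bool :=
  Nat.blt x.1 D.nroots && Nat.blt y.1 D.nroots && !Nat.beq x.1 y.1 && !Nat.beq x.1 (D.neg y.1)

/-- terms created when `x` moves to the right of `y` -/
def cmb (D : ChevalleyDatum) (y x : Term) : List Term :=
  ((D.commTerms y.1 x.1).filter fun c => !decide (c.2.1 % 2 = 0)).map fun c =>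
    (c.1, addE (smulE c.2.2.1 y.2) (smulE c.2.2.2 x.2))

/-- right fold of insertions -/
def foldOpt (g : Term → List Term → Option (List Term)) : List Term → List Term → Option (List Term)
  | [], r => some r
  | z :: L, r => (foldOpt g L r).bind (g z)

/-- insertion into a sorted word -/
def ins (D : ChevalleyDatum) : ℕ → Term → List Term → Option (List Term)
  | 0, _, _ => none
  | _ + 1, x, [] => some [x]
  | f + 1, x, y :: r =>
    bif Nat.blt x.1 y.1 then some (x :: y :: r)
    else bif Nat.beq x.1 y.1 then
      (bif beqE x.2 y.2 then some r
      else bif ltE x.2 y.2 then some (x :: y :: r)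
      else (ins D f x r).map (y :: ·))
    else bif canSwap D x y then (foldOpt (ins D f) (x :: cmb D y x) r).map (y :: ·)
    else none

/-- collected form of a word -/
def collect (D : ChevalleyDatum) (L : List Term) : Option (List Term) := foldOpt (ins D 1000) L []

/-- the terms at one root -/
def grp (L : List Term) (r : ℕ) : List Term := L.filter fun x => Nat.beq x.1 r

/-- the exponent vectors of the collected form at the listed roots -/
def chkRead (D : ChevalleyDatum) (L : List Term) (T : List (ℕ × List (List ℕ))) : Bool :=
  match collect D L with
  | some L' => decide ((List.range' (half D) (half D)).flatMap (grp L') = L') &&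
      T.all fun e => decide (half D ≤ e.1 ∧ e.1 < half D + half D) && ((grp L' e.1).map Prod.snd).isPerm e.2
  | none => false

/-- value of a sum of monomials -/
def evalS {F : Type*} [CommSemiring F] (v : List F) (E : List (List ℕ)) : F := (E.map (mon v)).sum

theorem mon_addE {F : Type*} [CommMonoid F] : ∀ (e f : List ℕ) (v : List F), mon v (addE e f) = mon v e * mon v f
  | [], f, v => by cases v <;> simp [addE, mon]
  | a :: e, [], v => by cases v <;> simp [addE, mon]
  | a :: e, b :: f, [] => by simp [addE, mon]
  | a :: e, b :: f, x :: v => by
    simp only [addE, mon, mon_addE e f v, pow_add]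
    ac_rfl

theorem mon_smulE {F : Type*} [CommMonoid F] (k : ℕ) : ∀ (e : List ℕ) (v : List F),
    mon v (smulE k e) = mon v e ^ k
  | [], v => by cases v <;> simp [smulE, mon]
  | a :: e, [] => by simp [smulE, mon]
  | a :: e, x :: v => by
    have := mon_smulE k e v
    simp only [smulE, List.map_cons] at this ⊢
    rw [mon, mon, this, mul_pow, ← pow_mul, mul_comm a k]

variable {D : ChevalleyDatum} {X : Aux} {F : Type*} [Field F] {G : Type*} [Group G] (R : Rel D X F G)

/-- value of a term -/
def val (v : List F) (x : Term) : G := R.xe x.1 (mon v x.2)

/-- value of a word -/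
def word (v : List F) (L : List Term) : G := (L.map (val R v)).prod

theorem word_cons (v : List F) (x : Term) (L : List Term) : word R v (x :: L) = val R v x * word R v L := by
  simp [word]

theorem word_nil (v : List F) : word R v [] = 1 := rfl

theorem word_append (v : List F) (L M : List Term) : word R v (L ++ M) = word R v L * word R v M := by
  simp [word]

theorem word_grp (v : List F) (r : ℕ) : ∀ L : List Term,
    word R v (grp L r) = R.xe r (evalS v ((grp L r).map Prod.snd))
  | [] => by simp [grp, word, evalS, R.xe_zero]
  | x :: L => by
    have ih := word_grp v r L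
    simp only [grp] at ih ⊢
    by_cases hx : x.1 = r
    · rw [List.filter_cons_of_pos (p := fun x : Term => Nat.beq x.1 r) (nat_beq_iff.2 hx), word_cons, ih, val, hx]
      simp only [evalS, List.map_cons, List.sum_cons]
      rw [R.xe_add']
    · rw [List.filter_cons_of_neg (p := fun x : Term => Nat.beq x.1 r) (mt nat_beq_iff.1 hx)]
      exact ih

/-- a grouped word is an ordered product -/
theorem word_eq_oprod (v : List F) (L : List Term) (h : (List.range' (half D) (half D)).flatMap (grp L) = L) :
    word R v L = R.oprod (half D) (half D) fun r => evalS v ((grp L r).map Prod.snd) := by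
  conv_lhs => rw [← h]
  unfold Rel.oprod
  generalize List.range' (half D) (half D) = l
  induction l with
  | nil => simp [word]
  | cons r l ih => rw [List.flatMap_cons, word_append, ih, word_grp, List.map_cons, List.prod_cons]

variable [CharP F 2] (v : List F)

theorem val_self (x : Term) : val R v x * val R v x = 1 := by
  rw [val, R.xe_add', CharTwo.add_self_eq_zero, R.xe_zero]

theorem word_reverse : ∀ L : List Term, word R v L.reverse = (word R v L)⁻¹
  | [] => by simp [word]
  | x :: L => by
    rw [List.reverse_cons, word_append, word_reverse L, word_cons, word_cons, word_nil, mul_one, mul_inv_rev,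
      inv_eq_of_mul_eq_one_right (val_self R v x)]

theorem swap_val {x y : Term} (h : canSwap D x y = true) :
    val R v x * val R v y = val R v y * word R v (x :: cmb D y x) := by
  simp only [canSwap, Bool.and_eq_true, Bool.not_eq_true', nat_blt_iff] at h
  obtain ⟨⟨⟨hx, hy⟩, h1⟩, h2⟩ := h
  rw [← Bool.not_eq_true, nat_beq_iff] at h1 h2
  rw [word_cons, ← mul_assoc, val, val, R.xe_comm _ _ _ _ hy hx h1 h2]
  congr 1
  simp only [word, cmb, ChevalleyDatum.commWord, List.map_map]
  induction D.commTerms y.1 x.1 with
  | nil => simp
  | cons c l ih =>
    rw [List.map_cons, List.prod_cons, ih]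
    by_cases hc : c.2.1 % 2 = 0
    · have h0 : ((c.2.1 : ℤ) : F) = 0 := by
        rw [CharP.intCast_eq_zero_iff F 2]
        exact Int.dvd_of_emod_eq_zero hc
      rw [List.filter_cons_of_neg (by simp [hc])]
      simp [h0, R.xe_zero]
    · have h1 : ((c.2.1 : ℤ) : F) = 1 := by
        obtain ⟨k, hk⟩ : ∃ k, c.2.1 = 2 * k + 1 := ⟨c.2.1 / 2, by omega⟩
        rw [hk]
        push_cast
        rw [CharTwo.two_eq_zero, zero_mul, zero_add]
      rw [List.filter_cons_of_pos (by simp [hc]), List.map_cons, List.prod_cons]
      congr 1
      simp only [Function.comp_apply, val, h1, mon_addE, mon_smulE, CharTwo.neg_eq, one_mul]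

theorem ins_word : ∀ (f : ℕ) (x : Term) (L L' : List Term), ins D f x L = some L' →
    word R v L' = val R v x * word R v L := by
  intro f
  induction f with
  | zero => intro x L L' h; simp [ins] at h
  | succ f ih =>
    have hfold : ∀ (M L L' : List Term), foldOpt (ins D f) M L = some L' →
        word R v L' = word R v M * word R v L := by
      intro M
      induction M with
      | nil => intro L L' h; simp only [foldOpt, Option.some.injEq] at h; subst h; simp [word]
      | cons z M ihM =>
        intro L L' h
        simp only [foldOpt, Option.bind_eq_some_iff] at h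
        obtain ⟨L1, h1, h2⟩ := h
        rw [ih _ _ _ h2, ihM _ _ h1, word_cons, mul_assoc]
    intro x L L' h
    cases L with
    | nil =>
      simp only [ins, Option.some.injEq] at h
      subst h
      simp [word]
    | cons y r =>
      simp only [ins] at h
      cases hlt : Nat.blt x.1 y.1 with
      | true =>
        simp only [hlt, cond_true, Option.some.injEq] at h
        subst h
        rw [word_cons]
      | false =>
        simp only [hlt, cond_false] at h
        cases hbq : Nat.beq x.1 y.1 with
        | true =>
          simp only [hbq, cond_true] at h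
          cases heq : beqE x.2 y.2 with
          | true =>
            simp only [heq, cond_true, Option.some.injEq] at h
            subst h
            have e : x = y := Prod.ext (nat_beq_iff.1 hbq) (eq_of_beqE _ _ heq)
            rw [word_cons, ← mul_assoc, e, val_self, one_mul]
          | false =>
            simp only [heq, cond_false] at h
            cases hl : ltE x.2 y.2 with
            | true =>
              simp only [hl, cond_true, Option.some.injEq] at h
              subst h
              rw [word_cons]
            | false =>
              simp only [hl, cond_false, Option.map_eq_some_iff] at h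
              obtain ⟨L1, h1, rfl⟩ := h
              rw [word_cons, ih _ _ _ h1, word_cons, ← mul_assoc, ← mul_assoc]
              congr 1
              simp only [val, nat_beq_iff.1 hbq, R.xe_add']
              rw [add_comm]
        | false =>
          simp only [hbq, cond_false] at h
          cases hsw : canSwap D x y with
          | false => simp [hsw] at h
          | true =>
            simp only [hsw, cond_true, Option.map_eq_some_iff] at h
            obtain ⟨L1, h1, rfl⟩ := h
            rw [word_cons, hfold _ _ _ h1, word_cons R v y r, ← mul_assoc, ← mul_assoc, swap_val R v hsw]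

theorem collect_word {L L' : List Term} (h : collect D L = some L') : word R v L' = word R v L := by
  suffices H : ∀ (M L0 L1 : List Term), foldOpt (ins D 1000) M L0 = some L1 →
      word R v L1 = word R v M * word R v L0 by
    rw [H _ _ _ h, word_nil, mul_one]
  intro M
  induction M with
  | nil => intro L0 L1 h; simp only [foldOpt, Option.some.injEq] at h; subst h; simp [word]
  | cons z M ihM =>
    intro L0 L1 h
    simp only [foldOpt, Option.bind_eq_some_iff] at h
    obtain ⟨L2, h1, h2⟩ := h
    rw [ins_word R v _ _ _ _ h2, ihM _ _ h1, word_cons, mul_assoc]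

/-- the coordinates of a word as an ordered product -/
theorem exists_read {L : List Term} {T : List (ℕ × List (List ℕ))} (h : chkRead D L T = true) :
    ∃ t : ℕ → F, word R v L = R.oprod (half D) (half D) t ∧
      ∀ e ∈ T, half D ≤ e.1 ∧ e.1 < half D + half D ∧ t e.1 = evalS v e.2 := by
  simp only [chkRead] at h
  cases hc : collect D L with
  | none => simp [hc] at h
  | some L' =>
    simp only [hc, Bool.and_eq_true, decide_eq_true_iff, List.all_eq_true, List.isPerm_iff] at h
    obtain ⟨h1, h2⟩ := h
    refine ⟨_, (collect_word R v hc).symm.trans (word_eq_oprod R v L' h1), fun e he => ?_⟩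
    obtain ⟨⟨a, b⟩, hp⟩ := h2 e he
    exact ⟨a, b, (hp.map _).sum_eq⟩

/-- equal words have equal coordinates -/
theorem read_eq {w : List F} {L M : List Term} {T U : List (ℕ × List (List ℕ))}
    (hL : chkRead D L T = true) (hM : chkRead D M U = true) (h : word R v L = word R w M)
    {r : ℕ} {E E' : List (List ℕ)} (hE : (r, E) ∈ T) (hE' : (r, E') ∈ U) : evalS v E = evalS w E' := by
  obtain ⟨t, et, ht⟩ := exists_read R v hL
  obtain ⟨t', et', ht'⟩ := exists_read R w hM
  obtain ⟨h1, h2, e1⟩ := ht _ hE
  obtain ⟨-, -, e2⟩ := ht' _ hE'
  rw [← e1, ← e2]
  exact R.oprod_inj _ _ t t' le_rfl (by have := R.cert.nroots_eq; omega)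
    (congrArg R.θ (et.symm.trans (h.trans et'))) r h1 h2

/-- two words with the same collected form have the same value -/
theorem word_eq_of_collect {L M N : List Term} (hL : collect D L = some N) (hM : collect D M = some N) :
    word R v L = word R v M :=
  (collect_word R v hL).symm.trans (collect_word R v hM)

/-- two words collect to the same form -/
def chkSame (D : ChevalleyDatum) (L M : List Term) : Bool :=
  match collect D L, collect D M with
  | some A, some B => decide (A = B)
  | _, _ => false

theorem word_eq_of_chk {L M : List Term} (h : chkSame D L M = true) : word R v L = word R v M := by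
  simp only [chkSame] at h
  cases hL : collect D L <;> cases hM : collect D M <;> simp [hL, hM] at h
  exact word_eq_of_collect R v hL (h ▸ hM)

end CfsgLib.Lie.Chev.MonCollect
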