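/-
Root classes and monomial elements of `²F₄(q)` for computations with symbolic parameters.
-/
import Cfsg.Agent.Lib.Lie.Twisted.F4
import Cfsg.Agent.Lib.Lie.Twisted.WordCalc
import Cfsg.Agent.Lib.Lie.Twisted.F4Inv.Collect

set_option autoImplicit false
set_option Elab.async false

namespace CfsgLib.Lie.Chev.TwGroups.F4Inv

open Cfsg.Lie
open MonCollect (Term word mon addE smulE)

variable {K : Type*} [Field K]

/-- root elements -/
abbrev X (r : ℕ) (t : K) : ↥(chevF4.group K) := xG certF4 K r t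

variable (φ : K →+* K)

/-- a fixed element of a class of type A1 × A1 -/
def cA (a b : ℕ) (t : K) : ↥(chevF4.group K) := X a (φ t) * X b t

/-- a fixed element of a class of type B2 -/
def cB (a b c d : ℕ) (t u : K) : ↥(chevF4.group K) :=
  X a (φ t) * (X b t * (X c (φ t * t + u) * X d (φ u ^ (2 : ℕ))))

abbrev C0 (t : K) : ↥(chevF4.group K) := cA φ 33 24 t
abbrev C1 (t u : K) : ↥(chevF4.group K) := cB φ 27 25 28 30 t u
abbrev C2 (t u : K) : ↥(chevF4.group K) := cB φ 34 26 36 42 t u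
abbrev C3 (t : K) : ↥(chevF4.group K) := cA φ 37 32 t
abbrev C4 (t u : K) : ↥(chevF4.group K) := cB φ 35 31 40 46 t u
abbrev C5 (t : K) : ↥(chevF4.group K) := cA φ 38 43 t
abbrev C6 (t u : K) : ↥(chevF4.group K) := cB φ 29 41 44 47 t u
abbrev C7 (t : K) : ↥(chevF4.group K) := cA φ 39 45 t

/-- the normal form of a fixed element of `U` -/
def form (a x1 y x2 z2 t3 x4 z4 t5 x6 z6 t7 : K) : ↥(chevF4.group K) :=
  C0 φ a * (C1 φ x1 y * (C2 φ x2 z2 * (C3 φ t3 * (C4 φ x4 z4 * (C5 φ t5 * (C6 φ x6 z6 * C7 φ t7))))))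

/-! ### symbolic words -/

/-- the unit exponent vector -/
def unit : ℕ → List ℕ
  | 0 => [1]
  | n + 1 => 0 :: unit n

/-- symbolic element of a class of type A1 × A1 -/
def wA (a b : ℕ) : Option ℕ → List Term
  | some i => [(a, unit (2 * i + 1)), (b, unit (2 * i))]
  | none => []

/-- symbolic element of a class of type B2 -/
def wB (a b c d : ℕ) : Option ℕ → Option ℕ → List Term
  | some i, some j => [(a, unit (2 * i + 1)), (b, unit (2 * i)), (c, addE (unit (2 * i + 1)) (unit (2 * i))),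
      (c, unit (2 * j)), (d, smulE 2 (unit (2 * j + 1)))]
  | some i, none => [(a, unit (2 * i + 1)), (b, unit (2 * i)), (c, addE (unit (2 * i + 1)) (unit (2 * i)))]
  | none, some j => [(c, unit (2 * j)), (d, smulE 2 (unit (2 * j + 1)))]
  | none, none => []

abbrev w0 : Option ℕ → List Term := wA 33 24
abbrev w1 : Option ℕ → Option ℕ → List Term := wB 27 25 28 30
abbrev w2 : Option ℕ → Option ℕ → List Term := wB 34 26 36 42
abbrev w3 : Option ℕ → List Term := wA 37 32
abbrev w4 : Option ℕ → Option ℕ → List Term := wB 35 31 40 46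
abbrev w5 : Option ℕ → List Term := wA 38 43
abbrev w6 : Option ℕ → Option ℕ → List Term := wB 29 41 44 47
abbrev w7 : Option ℕ → List Term := wA 39 45

/-- symbolic normal form -/
def formW (a x1 y x2 z2 t3 x4 z4 t5 x6 z6 t7 : Option ℕ) : List Term :=
  w0 a ++ (w1 x1 y ++ (w2 x2 z2 ++ (w3 t3 ++ (w4 x4 z4 ++ (w5 t5 ++ (w6 x6 z6 ++ w7 t7))))))

/-- the values of the atoms -/
def atoms (p : List K) : List K := p.flatMap fun t => [t, φ t]

/-- the value of a symbolic parameter -/
def po (p : List K) : Option ℕ → K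
  | some i => p.getD i 0
  | none => 0

/-- a symbolic parameter is in range -/
def inR (p : List K) : Option ℕ → Prop
  | some i => i < p.length
  | none => True

theorem mon_unit : ∀ (k : ℕ) (v : List K), mon v (unit k) = v.getD k 1
  | 0, [] => rfl
  | 0, x :: v => by cases v <;> simp [unit, mon]
  | k + 1, [] => rfl
  | k + 1, x :: v => by simp [unit, mon, mon_unit k v]

theorem atoms_getD : ∀ (i : ℕ) (p : List K), i < p.length →
    (atoms φ p).getD (2 * i) 1 = p.getD i 0 ∧ (atoms φ p).getD (2 * i + 1) 1 = φ (p.getD i 0)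
  | _, [], h => absurd h (Nat.not_lt_zero _)
  | 0, x :: p, _ => by simp [atoms]
  | i + 1, x :: p, h => by
    have := atoms_getD i p (Nat.lt_of_succ_lt_succ h)
    simpa [atoms, Nat.mul_succ] using this

theorem word_wA [CharP K 2] (p : List K) (a b : ℕ) (o : Option ℕ) (h : inR p o) :
    word (chevRel certF4 K) (atoms φ p) (wA a b o) = cA φ a b (po p o) := by
  cases o with
  | none => simp [wA, word, cA, po, X]; exact (by rw [(chevRel certF4 K).xe_zero, (chevRel certF4 K).xe_zero, one_mul] :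
      (1 : ↥(chevF4.group K)) = (chevRel certF4 K).xe a 0 * (chevRel certF4 K).xe b 0)
  | some i =>
    obtain ⟨e1, e2⟩ := atoms_getD φ i p h
    simp only [wA, word, List.map_cons, List.map_nil, List.prod_cons, List.prod_nil, mul_one, MonCollect.val,
      mon_unit, e1, e2]
    rfl

theorem word_wB [CharP K 2] (p : List K) (a b c d : ℕ) (o o' : Option ℕ) (h : inR p o) (h' : inR p o') :
    word (chevRel certF4 K) (atoms φ p) (wB a b c d o o') = cB φ a b c d (po p o) (po p o') := by
  have z : ∀ r, X r (0 : K) = 1 := (chevRel certF4 K).xe_zero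
  have key : ∀ (r : ℕ) (e : List ℕ), MonCollect.val (chevRel certF4 K) (atoms φ p) (r, e) = X r (mon (atoms φ p) e) :=
    fun _ _ => rfl
  cases o <;> cases o'
  · simp only [wB, word, List.map_nil, List.prod_nil, cB, po, map_zero, zero_mul, add_zero,
      zero_pow two_ne_zero, z, one_mul]
  · obtain ⟨e1, e2⟩ := atoms_getD φ _ p h'
    simp only [wB, word, List.map_cons, List.map_nil, List.prod_cons, List.prod_nil, mul_one, key, mon_unit,
      MonCollect.mon_smulE, e1, e2, cB, po, map_zero, zero_mul, zero_add, z, one_mul]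
  · obtain ⟨e1, e2⟩ := atoms_getD φ _ p h
    simp only [wB, word, List.map_cons, List.map_nil, List.prod_cons, List.prod_nil, mul_one, key, mon_unit,
      MonCollect.mon_addE, e1, e2, cB, po, map_zero, add_zero, zero_pow two_ne_zero, z]
  · obtain ⟨e1, e2⟩ := atoms_getD φ _ p h
    obtain ⟨f1, f2⟩ := atoms_getD φ _ p h'
    simp only [wB, word, List.map_cons, List.map_nil, List.prod_cons, List.prod_nil, mul_one, key, mon_unit,
      MonCollect.mon_addE, MonCollect.mon_smulE, e1, e2, f1, f2, cB, po]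
    congr 2
    rw [← mul_assoc, xG_pow_mul]

theorem word_formW [CharP K 2] (p : List K) {a x1 y x2 z2 t3 x4 z4 t5 x6 z6 t7 : Option ℕ}
    (ha : inR p a) (h1 : inR p x1) (hy : inR p y) (h2 : inR p x2) (g2 : inR p z2) (h3 : inR p t3)
    (h4 : inR p x4) (g4 : inR p z4) (h5 : inR p t5) (h6 : inR p x6) (g6 : inR p z6) (h7 : inR p t7) :
    word (chevRel certF4 K) (atoms φ p) (formW a x1 y x2 z2 t3 x4 z4 t5 x6 z6 t7) =
      form φ (po p a) (po p x1) (po p y) (po p x2) (po p z2) (po p t3) (po p x4) (po p z4) (po p t5) (po p x6)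
        (po p z6) (po p t7) := by
  simp only [formW, MonCollect.word_append, w0, w1, w2, w3, w4, w5, w6, w7, word_wA φ p _ _ _ ha,
    word_wA φ p _ _ _ h3, word_wA φ p _ _ _ h5, word_wA φ p _ _ _ h7, word_wB φ p _ _ _ _ _ _ h1 hy,
    word_wB φ p _ _ _ _ _ _ h2 g2, word_wB φ p _ _ _ _ _ _ h4 g4, word_wB φ p _ _ _ _ _ _ h6 g6]
  rfl

/-! ### monomial elements -/

/-- action of a word of simple reflections -/
def act (L : List ℕ) (r : ℕ) : ℕ := L.foldr (fun i r => auxF4.w i r) r

/-- the monomial element of a word of simple reflections -/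
def nw (L : List ℕ) : ↥(chevF4.group K) := (L.map fun i => (chevRel certF4 K).ne (chevF4.simple i) 1).prod

/-- the first simple reflection of the twisted Weyl group -/
abbrev nA : ↥(chevF4.group K) := nw [0, 3]

/-- the second simple reflection of the twisted Weyl group -/
abbrev nB : ↥(chevF4.group K) := nw [1, 2, 1, 2]

theorem rank_F4 : chevF4.rank = 4 := by decide +kernel

theorem nw_X [CharP K 2] : ∀ (L : List ℕ), (∀ i ∈ L, i < 4) → ∀ {r : ℕ}, r < chevF4.nroots → ∀ t : K,
    MulAut.conj (nw L) (X r t) = X (act L r) t ∧ act L r < chevF4.nroots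
  | [], _, r, hr, t => ⟨by simp [nw, act], hr⟩
  | i :: L, hL, r, hr, t => by
    obtain ⟨e, hlt⟩ := nw_X L (fun j hj => hL j (List.mem_cons_of_mem _ hj)) hr t
    have hi : i < chevF4.rank := rank_F4 ▸ hL i List.mem_cons_self
    refine ⟨?_, certF4.w_lt hi hlt⟩
    rw [show nw (K := K) (i :: L) = (chevRel certF4 K).ne (chevF4.simple i) 1 * nw L from by simp [nw], map_mul,
      MulAut.mul_apply, e]
    have h4 := ((chevRel certF4 K).isMon_ne_simple ⟨i, hi⟩ (one_ne_zero (α := K)) ⟨act L r, hlt⟩).2.2.2 t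
    have he : ((auxF4.eta i (act L r) : ℤ) : K) = 1 := by
      rcases mul_self_eq_one_iff.1 (auxF4.eta_sq_cast (F := K) i (act L r)) with h | h
      · exact h
      · rw [h, CharTwo.neg_eq]
    simp only [one_zpow, mul_one, he, one_mul] at h4
    exact h4

/-- a reflection word carries one list of roots to another -/
def chkAct (L rs rs' : List ℕ) : Bool :=
  L.all (fun i => Nat.blt i 4) && rs.all (fun r => Nat.blt r chevF4.nroots) && decide (rs.map (act L) = rs')

theorem nw_cA [CharP K 2] {L : List ℕ} {a b a' b' : ℕ} (h : chkAct L [a, b] [a', b'] = true) (t : K) :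
    MulAut.conj (nw L) (cA φ a b t) = cA φ a' b' t := by
  simp only [chkAct, Bool.and_eq_true, List.all_eq_true, nat_blt_iff, decide_eq_true_iff] at h
  obtain ⟨⟨hL, hr⟩, he⟩ := h
  simp only [List.map_cons, List.map_nil, List.cons.injEq, and_true] at he
  rw [cA, map_mul, (nw_X L hL (hr a (by simp)) _).1, (nw_X L hL (hr b (by simp)) _).1, he.1, he.2, cA]

theorem nw_cB [CharP K 2] {L : List ℕ} {a b c d a' b' c' d' : ℕ}
    (h : chkAct L [a, b, c, d] [a', b', c', d'] = true) (t u : K) :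
    MulAut.conj (nw L) (cB φ a b c d t u) = cB φ a' b' c' d' t u := by
  simp only [chkAct, Bool.and_eq_true, List.all_eq_true, nat_blt_iff, decide_eq_true_iff] at h
  obtain ⟨⟨hL, hr⟩, he⟩ := h
  simp only [List.map_cons, List.map_nil, List.cons.injEq, and_true] at he
  rw [cB, map_mul, map_mul, map_mul, (nw_X L hL (hr a (by simp)) _).1, (nw_X L hL (hr b (by simp)) _).1,
    (nw_X L hL (hr c (by simp)) _).1, (nw_X L hL (hr d (by simp)) _).1, he.1, he.2.1, he.2.2.1, he.2.2.2, cB]

/-- the elements used for conjugation lie in `H` -/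
structure Mem (H : Subgroup ↥(chevF4.group K)) : Prop where
  m0 : ∀ t, C0 φ t ∈ H
  m1 : ∀ t u, C1 φ t u ∈ H
  m2 : ∀ t u, C2 φ t u ∈ H
  m3 : ∀ t, C3 φ t ∈ H
  m4 : ∀ t u, C4 φ t u ∈ H
  m5 : ∀ t, C5 φ t ∈ H
  m6 : ∀ t u, C6 φ t u ∈ H
  m7 : ∀ t, C7 φ t ∈ H
  mnA : nA (K := K) ∈ H
  mnB : nB (K := K) ∈ H

/-- the part of `chkWordEq` that does not depend on the words -/
theorem nw_datum : ((List.range chevF4.nroots).all fun r => !Nat.beq (chevF4.neg r) r &&
    (row chevF4 r).all (fun e => !Nat.beq e.1 r && !Nat.beq e.1 (chevF4.neg r)) &&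
    (entries chevF4 r).all fun e => Nat.blt e.2.2.1 (chevF4.rank + chevF4.nroots)) = true := by decide +kernel

/-- one column of two words -/
def colOK (w w' : List (ℕ × ℤ)) (c : ℕ) : Bool :=
  decide (runW chevF4 2 w (unitV chevF4 c) = runW chevF4 2 w' (unitV chevF4 c))

theorem rank_add_nroots : chevF4.rank + chevF4.nroots = 52 := by decide +kernel

/-- the columns may be checked in four separate ranges, which keeps each kernel evaluation small -/
theorem chkWordEq_of_cols {w w' : List (ℕ × ℤ)} (hw : ((w ++ w').all fun a => Nat.blt a.1 chevF4.nroots) = true)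
    (h0 : (List.range' 0 13).all (colOK w w') = true) (h1 : (List.range' 13 13).all (colOK w w') = true)
    (h2 : (List.range' 26 13).all (colOK w w') = true) (h3 : (List.range' 39 13).all (colOK w w') = true) :
    chkWordEq chevF4 2 w w' = true := by
  rw [chkWordEq, nw_datum, hw, Bool.true_and, Bool.true_and, List.all_eq_true]
  intro c hc
  rw [List.mem_range, rank_add_nroots] at hc
  simp only [List.all_eq_true, List.mem_range'_1, colOK] at h0 h1 h2 h3
  by_cases c0 : c < 13
  · exact h0 c (by omega)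
  by_cases c1 : c < 26
  · exact h1 c (by omega)
  by_cases c2 : c < 39
  · exact h2 c (by omega)
  exact h3 c (by omega)

theorem nwordA_cols0 : (List.range' 0 13).all (colOK
    [(33, 1), (14, -1), (33, 1), (24, 1), (23, -1), (24, 1)]
    [(33, 1), (24, 1), (14, 1), (23, 1), (33, 1), (24, 1)]) = true := by decide +kernel

theorem nwordA_cols1 : (List.range' 13 13).all (colOK
    [(33, 1), (14, -1), (33, 1), (24, 1), (23, -1), (24, 1)]
    [(33, 1), (24, 1), (14, 1), (23, 1), (33, 1), (24, 1)]) = true := by decide +kernel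

theorem nwordA_cols2 : (List.range' 26 13).all (colOK
    [(33, 1), (14, -1), (33, 1), (24, 1), (23, -1), (24, 1)]
    [(33, 1), (24, 1), (14, 1), (23, 1), (33, 1), (24, 1)]) = true := by decide +kernel

theorem nwordA_cols3 : (List.range' 39 13).all (colOK
    [(33, 1), (14, -1), (33, 1), (24, 1), (23, -1), (24, 1)]
    [(33, 1), (24, 1), (14, 1), (23, 1), (33, 1), (24, 1)]) = true := by decide +kernel

theorem nwordA : chkWordEq chevF4 2 [(33, 1), (14, -1), (33, 1), (24, 1), (23, -1), (24, 1)]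
    [(33, 1), (24, 1), (14, 1), (23, 1), (33, 1), (24, 1)] = true :=
  chkWordEq_of_cols (by decide +kernel) nwordA_cols0 nwordA_cols1 nwordA_cols2 nwordA_cols3

theorem nwordB_cols0 : (List.range' 0 13).all (colOK
    [(27, 1), (20, -1), (27, 1), (25, 1), (22, -1), (25, 1), (27, 1), (20, -1), (27, 1), (25, 1), (22, -1), (25, 1)]
    [(27, 1), (25, 1), (30, 1), (20, 1), (22, 1), (19, 1), (28, 1), (30, 1)]) = true := by decide +kernel

theorem nwordB_cols1 : (List.range' 13 13).all (colOK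
    [(27, 1), (20, -1), (27, 1), (25, 1), (22, -1), (25, 1), (27, 1), (20, -1), (27, 1), (25, 1), (22, -1), (25, 1)]
    [(27, 1), (25, 1), (30, 1), (20, 1), (22, 1), (19, 1), (28, 1), (30, 1)]) = true := by decide +kernel

theorem nwordB_cols2 : (List.range' 26 13).all (colOK
    [(27, 1), (20, -1), (27, 1), (25, 1), (22, -1), (25, 1), (27, 1), (20, -1), (27, 1), (25, 1), (22, -1), (25, 1)]
    [(27, 1), (25, 1), (30, 1), (20, 1), (22, 1), (19, 1), (28, 1), (30, 1)]) = true := by decide +kernel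

theorem nwordB_cols3 : (List.range' 39 13).all (colOK
    [(27, 1), (20, -1), (27, 1), (25, 1), (22, -1), (25, 1), (27, 1), (20, -1), (27, 1), (25, 1), (22, -1), (25, 1)]
    [(27, 1), (25, 1), (30, 1), (20, 1), (22, 1), (19, 1), (28, 1), (30, 1)]) = true := by decide +kernel

theorem nwordB : chkWordEq chevF4 2
    [(27, 1), (20, -1), (27, 1), (25, 1), (22, -1), (25, 1), (27, 1), (20, -1), (27, 1), (25, 1), (22, -1), (25, 1)]
    [(27, 1), (25, 1), (30, 1), (20, 1), (22, 1), (19, 1), (28, 1), (30, 1)] = true :=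
  chkWordEq_of_cols (by decide +kernel) nwordB_cols0 nwordB_cols1 nwordB_cols2 nwordB_cols3

theorem negs : chevF4.simple 0 = 33 ∧ chevF4.simple 1 = 27 ∧ chevF4.simple 2 = 25 ∧ chevF4.simple 3 = 24 ∧
    chevF4.neg 33 = 14 ∧ chevF4.neg 27 = 20 ∧ chevF4.neg 25 = 22 ∧ chevF4.neg 24 = 23 := by decide +kernel

theorem chkImgs : chkAct [0, 3] [27, 25, 28, 30] [34, 26, 36, 42] = true ∧
    chkAct [1, 2, 1, 2] [33, 24] [37, 32] = true ∧ chkAct [1, 2, 1, 2] [34, 26, 36, 42] [35, 31, 40, 46] = true ∧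
    chkAct [0, 3] [37, 32] [38, 43] = true ∧ chkAct [0, 3] [35, 31, 40, 46] [29, 41, 44, 47] = true ∧
    chkAct [1, 2, 1, 2] [38, 43] [39, 45] = true := by decide +kernel

/-- membership from the generators -/
theorem mem_of_gens [CharP K 2] {H : Subgroup ↥(chevF4.group K)} (h0 : ∀ t, C0 φ t ∈ H) (h0' : ∀ t, cA φ 14 23 t ∈ H)
    (h1 : ∀ t u, C1 φ t u ∈ H) (h1' : ∀ t u, cB φ 20 22 19 17 t u ∈ H) : Mem φ H := by
  obtain ⟨s0, s1, s2, s3, n33, n27, n25, n24⟩ := negs
  have hp : ((2 : ℤ) : K) = 0 := by exact_mod_cast (CharTwo.two_eq_zero : (2 : K) = 0)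
  have z : ∀ r, X r (0 : K) = 1 := (chevRel certF4 K).xe_zero
  have hone : ((1 : ℤ) : K) = 1 := Int.cast_one
  have hA : nA (K := K) ∈ H := by
    have e := wordG_eq_of_chk (K := K) certF4 hp nwordA
    have h1e : nA (K := K) = cA φ 33 24 1 * cA φ 14 23 1 * cA φ 33 24 1 := by
      simp only [castW, List.map_cons, List.map_nil, wordG_cons, wordG_nil, mul_one] at e
      simp only [nw, List.map_cons, List.map_nil, List.prod_cons, List.prod_nil, mul_one, s0, s3, Rel.ne, neOf, cA, map_one]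
      simp only [Int.cast_one, Int.cast_neg, CharTwo.neg_eq] at e
      simp only [n33, n24, inv_one, CharTwo.neg_eq, mul_assoc]
      exact e
    rw [h1e]
    exact mul_mem (mul_mem (h0 1) (h0' 1)) (h0 1)
  have hB : nB (K := K) ∈ H := by
    have e := wordG_eq_of_chk (K := K) certF4 hp nwordB
    have h1e : nB (K := K) = cB φ 27 25 28 30 1 1 * cB φ 20 22 19 17 1 0 * cB φ 27 25 28 30 0 1 := by
      simp only [castW, List.map_cons, List.map_nil, wordG_cons, wordG_nil, mul_one] at e
      simp only [nw, List.map_cons, List.map_nil, List.prod_cons, List.prod_nil, mul_one, s1, s2, Rel.ne, neOf, cB, map_one,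
        map_zero, one_pow, zero_pow two_ne_zero, zero_mul, zero_add, add_zero, one_mul, CharTwo.add_self_eq_zero, z]
      simp only [Int.cast_one, Int.cast_neg, CharTwo.neg_eq] at e
      simp only [n27, n25, inv_one, CharTwo.neg_eq, mul_assoc]
      exact e
    rw [h1e]
    exact mul_mem (mul_mem (h1 1 1) (h1' 1 0)) (h1 0 1)
  have cj : ∀ {c g : ↥(chevF4.group K)}, c ∈ H → g ∈ H → MulAut.conj c g ∈ H := fun hc hg =>
    mul_mem (mul_mem hc hg) (inv_mem hc)
  obtain ⟨k2, k3, k4, k5, k6, k7⟩ := chkImgs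
  have via : ∀ {c g g' : ↥(chevF4.group K)}, MulAut.conj c g = g' → c ∈ H → g ∈ H → g' ∈ H :=
    fun e hc hg => e ▸ cj hc hg
  have m2 : ∀ t u, C2 φ t u ∈ H := fun t u => via (nw_cB φ k2 t u) hA (h1 t u)
  have m3 : ∀ t, C3 φ t ∈ H := fun t => via (nw_cA φ k3 t) hB (h0 t)
  have m4 : ∀ t u, C4 φ t u ∈ H := fun t u => via (nw_cB φ k4 t u) hB (m2 t u)
  have m5 : ∀ t, C5 φ t ∈ H := fun t => via (nw_cA φ k5 t) hA (m3 t)
  exact ⟨h0, h1, m2, m3, m4, m5, fun t u => via (nw_cB φ k6 t u) hA (m4 t u),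
    fun t => via (nw_cA φ k7 t) hB (m5 t), hA, hB⟩

theorem pos_rng : ∀ r ∈ [33, 24, 27, 25, 28, 30, 34, 26, 36, 42, 37, 32, 35, 31, 40, 46, 38, 43, 29, 41, 44, 47, 39,
    45], half chevF4 ≤ r ∧ r < chevF4.nroots := by decide +kernel

theorem form_mem_UP (a x1 y x2 z2 t3 x4 z4 t5 x6 z6 t7 : K) :
    form φ a x1 y x2 z2 t3 x4 z4 t5 x6 z6 t7 ∈ (chevRel certF4 K).UP := by
  have hm : ∀ (r : ℕ), r ∈ [33, 24, 27, 25, 28, 30, 34, 26, 36, 42, 37, 32, 35, 31, 40, 46, 38, 43, 29, 41, 44, 47,
      39, 45] → ∀ t : K, X r t ∈ (chevRel certF4 K).UP := fun r hr t =>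
    xG_pos_mem certF4 (pos_rng r hr).1 (pos_rng r hr).2 t
  simp only [form, cA, cB]
  repeat' apply mul_mem
  all_goals exact hm _ (by decide) _

variable {φ}

theorem Mem.form_mem {H : Subgroup ↥(chevF4.group K)} (M : Mem φ H) (a x1 y x2 z2 t3 x4 z4 t5 x6 z6 t7 : K) :
    form φ a x1 y x2 z2 t3 x4 z4 t5 x6 z6 t7 ∈ H :=
  mul_mem (M.m0 _) (mul_mem (M.m1 _ _) (mul_mem (M.m2 _ _) (mul_mem (M.m3 _)
    (mul_mem (M.m4 _ _) (mul_mem (M.m5 _) (mul_mem (M.m6 _ _) (M.m7 _)))))))

end CfsgLib.Lie.Chev.TwGroups.F4Inv
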