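/-
Reading the coordinates of the normal form, of conjugates and of squares.
-/
import Cfsg.Agent.Lib.Lie.Twisted.F4Inv.Calc

set_option autoImplicit false

namespace CfsgLib.Lie.Chev.TwGroups.F4Inv

open Cfsg.Lie
open MonCollect (Term word chkRead evalS)

/-- the roots at which coordinates are read -/
def rdRoots : List ℕ := [24, 25, 28, 26, 36, 32, 31, 40, 43, 41, 44, 45]

/-- a generic element of the normal form -/
def fullW : List Term :=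
  formW (some 0) (some 1) (some 2) (some 3) (some 4) (some 5) (some 6) (some 7) (some 8) (some 9) (some 10) (some 11)

/-- its coordinates -/
def fullAt : ℕ → List (List ℕ)
  | 24 => [[1]]
  | 25 => [[0, 0, 1]]
  | 28 => [[0, 0, 0, 0, 1]]
  | 26 => [[0, 0, 0, 0, 0, 0, 1]]
  | 36 => [[0, 0, 0, 0, 0, 0, 0, 0, 1], [0, 1, 0, 0, 0, 0, 0, 0, 0, 0, 0, 0, 0, 0, 0, 0, 0, 0, 0, 1], [0, 1, 0, 1, 0, 0, 1]]
  | 32 => [[0, 0, 0, 0, 0, 0, 0, 0, 0, 0, 1], [0, 0, 0, 0, 0, 2, 1], [0, 0, 1, 2, 0, 0, 1]]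
  | 31 => [[0, 0, 0, 0, 0, 0, 0, 0, 0, 0, 0, 0, 1], [0, 0, 0, 2, 0, 0, 1]]
  | 40 => [[0, 0, 0, 0, 0, 0, 0, 0, 0, 0, 0, 0, 0, 0, 1], [0, 0, 0, 0, 0, 0, 0, 0, 0, 0, 0, 1, 0, 0, 0, 0, 0, 0, 0, 1],
      [0, 0, 0, 0, 0, 0, 0, 1, 0, 0, 1], [0, 1, 0, 0, 0, 2, 0, 0, 0, 0, 0, 0, 0, 0, 0, 0, 0, 0, 0, 1],
      [0, 1, 0, 0, 1, 0, 0, 0, 0, 0, 0, 0, 1], [0, 1, 0, 1, 0, 0, 0, 0, 0, 0, 1],
      [0, 1, 0, 1, 1, 0, 0, 0, 0, 0, 0, 0, 0, 0, 0, 0, 0, 0, 0, 1],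
      [0, 1, 1, 2, 0, 0, 0, 0, 0, 0, 0, 0, 0, 0, 0, 0, 0, 0, 0, 1]]
  | 43 => [[0, 0, 0, 0, 0, 0, 0, 0, 0, 0, 0, 0, 0, 0, 0, 0, 1], [0, 2, 0, 0, 0, 0, 0, 0, 0, 0, 1], [0, 2, 0, 0, 0, 2, 1],
      [0, 2, 1, 2, 0, 0, 1]]
  | 41 => [[0, 0, 0, 0, 0, 0, 0, 0, 0, 0, 0, 0, 0, 0, 0, 0, 0, 0, 1], [0, 2, 0, 0, 0, 2], [0, 2, 1, 2]]
  | 44 => [[0, 0, 0, 0, 0, 0, 0, 0, 0, 0, 0, 0, 0, 0, 0, 0, 0, 0, 0, 0, 1],
      [0, 0, 0, 0, 0, 0, 0, 0, 0, 0, 0, 0, 0, 0, 0, 0, 0, 0, 1, 1],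
      [0, 0, 0, 0, 0, 0, 0, 1, 0, 0, 0, 0, 0, 1, 0, 0, 0, 0, 0, 1], [0, 1, 0, 0, 0, 0, 0, 0, 0, 0, 0, 0, 1, 1],
      [0, 1, 0, 0, 0, 0, 0, 1, 0, 0, 1], [0, 1, 0, 0, 0, 2, 0, 0, 1], [0, 1, 0, 0, 0, 2, 1, 1],
      [0, 1, 0, 0, 1, 0, 0, 1, 0, 0, 0, 0, 0, 0, 0, 0, 0, 0, 0, 1],
      [0, 1, 0, 1, 0, 0, 0, 0, 0, 0, 0, 0, 0, 1, 0, 0, 0, 0, 0, 1], [0, 1, 0, 1, 1, 0, 0, 0, 1],
      [0, 1, 0, 1, 1, 0, 1, 1], [0, 1, 1, 2, 0, 0, 0, 0, 1], [0, 1, 1, 2, 0, 0, 1, 1],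
      [0, 2, 0, 0, 0, 2, 0, 0, 0, 0, 0, 0, 0, 0, 0, 0, 0, 0, 0, 1], [0, 2, 0, 0, 1, 0, 0, 0, 0, 0, 0, 0, 1],
      [0, 2, 0, 1, 0, 0, 0, 0, 0, 0, 1], [0, 2, 0, 1, 1, 0, 0, 0, 0, 0, 0, 0, 0, 0, 0, 0, 0, 0, 0, 1],
      [0, 2, 1, 2, 0, 0, 0, 0, 0, 0, 0, 0, 0, 0, 0, 0, 0, 0, 0, 1]]
  | 45 => [[0, 0, 0, 0, 0, 0, 0, 0, 0, 0, 0, 0, 0, 0, 0, 0, 0, 0, 0, 0, 0, 0, 1], [0, 0, 0, 0, 0, 0, 0, 2, 0, 0, 1],
      [0, 2, 0, 0, 0, 2, 0, 0, 0, 0, 0, 0, 1], [0, 2, 0, 2, 0, 0, 0, 0, 0, 0, 1],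
      [0, 2, 1, 2, 0, 0, 0, 0, 0, 0, 0, 0, 1]]
  | _ => []

theorem full_ok : chkRead chevF4 fullW (rdRoots.map fun r => (r, fullAt r)) = true := by decide +kernel

variable {K : Type*} [Field K] (φ : K →+* K) [CharP K 2]

theorem word_fullW (a x1 y x2 z2 t3 x4 z4 t5 x6 z6 t7 : K) :
    word (chevRel certF4 K) (atoms φ [a, x1, y, x2, z2, t3, x4, z4, t5, x6, z6, t7]) fullW =
      form φ a x1 y x2 z2 t3 x4 z4 t5 x6 z6 t7 := by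
  rw [fullW, word_formW φ _ (by simp [inR]) (by simp [inR]) (by simp [inR]) (by simp [inR]) (by simp [inR])
    (by simp [inR]) (by simp [inR]) (by simp [inR]) (by simp [inR]) (by simp [inR]) (by simp [inR]) (by simp [inR])]
  simp [po]

/-- a checked list of coordinates at reading roots -/
def chkTab (L : List Term) (T : List (ℕ × List (List ℕ))) : Bool :=
  chkRead chevF4 L T && T.all fun e => decide (e.1 ∈ rdRoots)

/-- the coordinates of the normal form of a word -/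
theorem read_form {p : List K} {L : List Term} {T : List (ℕ × List (List ℕ))} (hT : chkTab L T = true)
    {a x1 y x2 z2 t3 x4 z4 t5 x6 z6 t7 : K}
    (h : form φ a x1 y x2 z2 t3 x4 z4 t5 x6 z6 t7 = word (chevRel certF4 K) (atoms φ p) L) :
    ∀ e ∈ T, evalS (atoms φ [a, x1, y, x2, z2, t3, x4, z4, t5, x6, z6, t7]) (fullAt e.1) =
      evalS (atoms φ p) e.2 := by
  simp only [chkTab, Bool.and_eq_true, List.all_eq_true, decide_eq_true_iff] at hT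
  rintro ⟨r, E⟩ he
  rw [← word_fullW φ] at h
  exact MonCollect.read_eq (chevRel certF4 K) _ full_ok hT.1 h (r := r) (E := fullAt r)
    (List.mem_map.2 ⟨r, hT.2 _ he, rfl⟩) he

/-- the coordinates of the square of an involution vanish -/
theorem read_sq {p : List K} {U : List Term} {T : List (ℕ × List (List ℕ))} (hT : chkRead chevF4 (U ++ U) T = true)
    {g : ↥(chevF4.group K)} (hg : word (chevRel certF4 K) (atoms φ p) U = g) (h2 : g * g = 1) :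
    ∀ e ∈ T, evalS (atoms φ p) e.2 = 0 := by
  intro e he
  obtain ⟨t, et, ht⟩ := MonCollect.exists_read (chevRel certF4 K) (atoms φ p) hT
  obtain ⟨h1, h1', e1⟩ := ht e he
  rw [MonCollect.word_append, hg, h2] at et
  have e0 : (1 : ↥(chevF4.group K)) = (chevRel certF4 K).oprod (half chevF4) (half chevF4) fun _ => (0 : K) := by
    simp [Rel.oprod, (chevRel certF4 K).xe_zero]
  rw [← e1]
  exact ((chevRel certF4 K).oprod_inj _ _ _ t le_rfl (by have := certF4.nroots_eq; omega)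
    (congrArg (chevRel certF4 K).θ (e0.symm.trans et)) e.1 h1 h1').symm

/-- every fixed element of `U` has a normal form -/
def HasForm (H : Subgroup ↥(chevF4.group K)) : Prop :=
  ∀ x ∈ H, x ∈ (chevRel certF4 K).UP →
    ∃ a x1 y x2 z2 t3 x4 z4 t5 x6 z6 t7 : K, form φ a x1 y x2 z2 t3 x4 z4 t5 x6 z6 t7 = x

/-- conjugacy under `H` -/
def Cj (H : Subgroup ↥(chevF4.group K)) (g h : ↥(chevF4.group K)) : Prop := ∃ c ∈ H, c * g * c⁻¹ = h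

variable {φ} {H : Subgroup ↥(chevF4.group K)}

omit [CharP K 2] in
theorem Cj.trans {f g h : ↥(chevF4.group K)} (h₁ : Cj H f g) (h₂ : Cj H g h) : Cj H f h := by
  obtain ⟨c, hc, rfl⟩ := h₁
  obtain ⟨d, hd, rfl⟩ := h₂
  exact ⟨d * c, mul_mem hd hc, by group⟩

omit [CharP K 2] in
theorem Cj.sq {g h : ↥(chevF4.group K)} (hc : Cj H g h) (hg : g * g = 1) : h * h = 1 := by
  obtain ⟨c, -, rfl⟩ := hc
  calc c * g * c⁻¹ * (c * g * c⁻¹) = c * (g * g) * c⁻¹ := by group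
    _ = 1 := by rw [hg]; group

/-- conjugation by a word, read in coordinates -/
theorem read_conj (hf : HasForm φ H) {p : List K} {G U : List Term} {T : List (ℕ × List (List ℕ))}
    (hT : chkTab (G ++ (U ++ G.reverse)) T = true) {g x : ↥(chevF4.group K)}
    (hg : word (chevRel certF4 K) (atoms φ p) G = g) (hx : word (chevRel certF4 K) (atoms φ p) U = x)
    (hgH : g ∈ H) (hxH : x ∈ H) (hgU : g ∈ (chevRel certF4 K).UP) (hxU : x ∈ (chevRel certF4 K).UP) :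
    ∃ a x1 y x2 z2 t3 x4 z4 t5 x6 z6 t7 : K, Cj H x (form φ a x1 y x2 z2 t3 x4 z4 t5 x6 z6 t7) ∧
      ∀ e ∈ T, evalS (atoms φ [a, x1, y, x2, z2, t3, x4, z4, t5, x6, z6, t7]) (fullAt e.1) =
        evalS (atoms φ p) e.2 := by
  obtain ⟨a, x1, y, x2, z2, t3, x4, z4, t5, x6, z6, t7, e⟩ :=
    hf _ (mul_mem (mul_mem hgH hxH) (inv_mem hgH)) (mul_mem (mul_mem hgU hxU) (inv_mem hgU))
  refine ⟨a, x1, y, x2, z2, t3, x4, z4, t5, x6, z6, t7, ⟨g, hgH, e.symm⟩, read_form φ hT ?_⟩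
  rw [e, MonCollect.word_append, MonCollect.word_append, MonCollect.word_reverse, hg, hx, mul_assoc]

end CfsgLib.Lie.Chev.TwGroups.F4Inv
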