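/-
Reduction of the involutions of the fixed part of `U` in `²F₄(q)` to two representatives.
-/
import Cfsg.Agent.Lib.Lie.Twisted.F4Inv.Read
import Cfsg.Agent.Lib.Lie.Rel.SL2

set_option autoImplicit false
set_option linter.unusedSimpArgs false
set_option linter.unusedVariables false

namespace CfsgLib.Lie.Chev.TwGroups.F4Inv

open Cfsg.Lie
open MonCollect (word)

variable {K : Type*} [Field K] {φ : K →+* K} [CharP K 2] {H : Subgroup ↥(chevF4.group K)}

/-- the data used in the reduction -/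
structure Data (φ : K →+* K) (H : Subgroup ↥(chevF4.group K)) : Prop where
  mem : Mem φ H
  hf : HasForm φ H
  tors : ∀ c : K, c ≠ 0 → (chevRel certF4 K).ne 33 (φ c) * (chevRel certF4 K).ne 24 c ∈ H
  fix : ∀ x, φ (φ x) ^ (2 : ℕ) = x
  sqr : ∀ x : K, ∃ z, z ^ (2 : ℕ) = x
  n1 : ∀ x : K, ∃ z, z * φ z = x
  n2 : ∀ x : K, ∃ z, z * φ z ^ (2 : ℕ) = x

section Facts

theorem negPair : chkAct [0, 3] [14, 23] [33, 24] = true := by decide +kernel

theorem imgInv : chkAct [0, 3] [34, 26, 36, 42] [27, 25, 28, 30] = true ∧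
    chkAct [0, 3] [29, 41, 44, 47] [35, 31, 40, 46] = true ∧ chkAct [1, 2, 1, 2] [35, 31, 40, 46] [34, 26, 36, 42] = true ∧
    chkAct [0, 3] [38, 43] [37, 32] = true ∧ chkAct [1, 2, 1, 2] [37, 32] [33, 24] = true := by decide +kernel

theorem scale28 : auxF4.w 3 28 < chevF4.nroots ∧ auxF4.w 3 30 < chevF4.nroots ∧
    chevF4.cartan 3 28 = -1 ∧ chevF4.cartan 0 (auxF4.w 3 28) = -1 ∧ auxF4.w 0 (auxF4.w 3 28) = 36 ∧
    chevF4.cartan 3 30 = -1 ∧ chevF4.cartan 0 (auxF4.w 3 30) = -2 ∧ auxF4.w 0 (auxF4.w 3 30) = 42 ∧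
    (28 : ℕ) < chevF4.nroots ∧ (30 : ℕ) < chevF4.nroots ∧ (0 : ℕ) < chevF4.rank ∧ (3 : ℕ) < chevF4.rank := by
  decide +kernel

theorem imgB : chkAct [1, 2, 1, 2] [34, 26, 36, 42] [35, 31, 40, 46] = true ∧
    chkAct [1, 2, 1, 2] [35, 31, 40, 46] [34, 26, 36, 42] = true ∧ chkAct [1, 2, 1, 2] [38, 43] [39, 45] = true ∧
    chkAct [1, 2, 1, 2] [39, 45] [38, 43] = true ∧ chkAct [1, 2, 1, 2] [29, 41, 44, 47] [29, 41, 44, 47] = true ∧
    chkAct [1, 2, 1, 2] [37, 32] [33, 24] = true := by decide +kernel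

theorem swapE : MonCollect.chkSame chevF4 (w4 none (some 0) ++ (w2 none (some 1) ++ (w7 (some 2) ++ (w6 none (some 3) ++ w5 (some 4)))))
    (formW none none none none (some 1) none none (some 0) (some 4) none (some 3) (some 2)) = true := by decide +kernel

theorem imgA : chkAct [0, 3] [27, 25, 28, 30] [34, 26, 36, 42] = true ∧
    chkAct [0, 3] [29, 41, 44, 47] [35, 31, 40, 46] = true := by decide +kernel

end Facts

variable (D : Data φ H)
include D

theorem Data.surjφ (x : K) : ∃ z, φ z = x := ⟨φ x ^ (2 : ℕ), by rw [map_pow, D.fix]⟩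

theorem Data.surj2 (x : K) : ∃ z, φ z ^ (2 : ℕ) = x := ⟨φ x, D.fix x⟩

omit D in
/-- the symbolic parameters are in range -/
def chkRg (n : ℕ) (l : List (Option ℕ)) : Bool := l.all fun o => o.elim true fun i => Nat.blt i n

omit D in
theorem word_formW' (p : List K) {a x1 y x2 z2 t3 x4 z4 t5 x6 z6 t7 : Option ℕ}
    (h : chkRg p.length [a, x1, y, x2, z2, t3, x4, z4, t5, x6, z6, t7] = true) :
    word (chevRel certF4 K) (atoms φ p) (formW a x1 y x2 z2 t3 x4 z4 t5 x6 z6 t7) =
      form φ (po p a) (po p x1) (po p y) (po p x2) (po p z2) (po p t3) (po p x4) (po p z4) (po p t5) (po p x6)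
        (po p z6) (po p t7) := by
  simp only [chkRg, List.all_cons, List.all_nil, Bool.and_true, Bool.and_eq_true] at h
  have key : ∀ o : Option ℕ, o.elim true (fun i => Nat.blt i p.length) = true → inR p o := by
    intro o ho
    cases o with
    | none => trivial
    | some i => exact nat_blt_iff.1 ho
  obtain ⟨h1, h2, h3, h4, h5, h6, h7, h8, h9, h10, h11, h12⟩ := h
  exact word_formW φ p (key _ h1) (key _ h2) (key _ h3) (key _ h4) (key _ h5) (key _ h6) (key _ h7) (key _ h8)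
    (key _ h9) (key _ h10) (key _ h11) (key _ h12)

omit D in
theorem cA_UP {a b : ℕ} (h : decide ((half chevF4 ≤ a ∧ a < chevF4.nroots) ∧ half chevF4 ≤ b ∧ b < chevF4.nroots) = true)
    (t : K) : cA φ a b t ∈ (chevRel certF4 K).UP := by
  obtain ⟨h1, h2⟩ := of_decide_eq_true h
  exact mul_mem (xG_pos_mem certF4 h1.1 h1.2 _) (xG_pos_mem certF4 h2.1 h2.2 _)

omit D in
theorem cB_UP {a b c d : ℕ} (h : decide ((half chevF4 ≤ a ∧ a < chevF4.nroots) ∧ (half chevF4 ≤ b ∧ b < chevF4.nroots) ∧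
      (half chevF4 ≤ c ∧ c < chevF4.nroots) ∧ half chevF4 ≤ d ∧ d < chevF4.nroots) = true) (t u : K) :
    cB φ a b c d t u ∈ (chevRel certF4 K).UP := by
  obtain ⟨h1, h2, h3, h4⟩ := of_decide_eq_true h
  exact mul_mem (xG_pos_mem certF4 h1.1 h1.2 _) (mul_mem (xG_pos_mem certF4 h2.1 h2.2 _)
    (mul_mem (xG_pos_mem certF4 h3.1 h3.2 _) (xG_pos_mem certF4 h4.1 h4.2 _)))

omit D in
/-- the conclusion for one element -/
def Good (φ : K →+* K) (H : Subgroup ↥(chevF4.group K)) (g : ↥(chevF4.group K)) : Prop :=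
  g = 1 ∨ Cj H g (C0 φ 1) ∨ Cj H g (C1 φ 0 1)

omit D in
theorem Cj.good {g h : ↥(chevF4.group K)} (hc : Cj H g h) (hh : Good φ H h) : Good φ H g := by
  rcases hh with rfl | h1 | h1
  · obtain ⟨c, -, hc⟩ := hc
    exact Or.inl (conj_eq_one_iff.1 hc)
  · exact Or.inr (Or.inl (hc.trans h1))
  · exact Or.inr (Or.inr (hc.trans h1))

omit D in
theorem Cj.of_conj {c : ↥(chevF4.group K)} (hc : c ∈ H) {g g' : ↥(chevF4.group K)} (e : MulAut.conj c g = g') :
    Cj H g g' := ⟨c, hc, e⟩

omit D in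
theorem cA_zero (a b : ℕ) : cA φ a b 0 = 1 := by
  simp only [cA, X, map_zero]
  show (chevRel certF4 K).xe a 0 * (chevRel certF4 K).xe b 0 = 1
  rw [(chevRel certF4 K).xe_zero, (chevRel certF4 K).xe_zero, one_mul]

omit D in
theorem cB_zero (a b c d : ℕ) : cB φ a b c d 0 0 = 1 := by
  simp only [cB, X, map_zero, zero_mul, add_zero, zero_pow two_ne_zero]
  show (chevRel certF4 K).xe a 0 * ((chevRel certF4 K).xe b 0 * ((chevRel certF4 K).xe c 0 * (chevRel certF4 K).xe d 0)) = 1
  simp only [(chevRel certF4 K).xe_zero, one_mul]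

/-! ### the representatives -/

theorem good_C0 (a : K) : Good φ H (C0 φ a) := by
  by_cases ha : a = 0
  · subst ha; exact Or.inl (cA_zero _ _)
  obtain ⟨c, hc⟩ := D.sqr a
  have hc0 : c ≠ 0 := by rintro rfl; exact ha (by rw [← hc]; simp)
  obtain ⟨-, -, -, -, n33, -, -, n24⟩ := negs
  obtain ⟨⟨p1, -, q1, q2⟩, -, -⟩ := commF4
  have hl : (33 : ℕ) < chevF4.nroots ∧ (24 : ℕ) < chevF4.nroots := by decide +kernel
  obtain ⟨N, hN⟩ : ∃ N, N = (chevRel certF4 K).ne 33 (φ c) * (chevRel certF4 K).ne 24 c := ⟨_, rfl⟩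
  have cm : ∀ u v : K, Commute ((chevRel certF4 K).ne 24 u) (X 33 v) := fun u v =>
    (((xG_commute certF4 p1 v u).symm.mul_left (xG_commute certF4 (by rwa [n24]) v _).symm).mul_left
      (xG_commute certF4 p1 v u).symm)
  have cm' : ∀ u v : K, Commute ((chevRel certF4 K).ne 33 u) (X 23 v) := fun u v => by
    have h14 : chkNoTerms chevF4 14 23 = true := commF4.1.2.1
    exact (((xG_commute certF4 q1 u v).mul_left (xG_commute certF4 (by rw [n33]; exact h14) _ v)).mul_left
      (xG_commute certF4 q1 u v))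
  have h1 : MulAut.conj N (C0 φ a) = cA φ 14 23 1 := by
    have e33 := (chevRel certF4 K).ne_conj_xe ⟨33, hl.1⟩ (c := φ c) ((map_ne_zero φ).2 hc0) (φ a)
    have e24 := (chevRel certF4 K).ne_conj_xe ⟨24, hl.2⟩ (c := c) hc0 a
    simp only [CharTwo.neg_eq] at e33 e24
    have f33 : MulAut.conj N (X 33 (φ a)) = X 14 1 := by
      rw [hN, map_mul, MulAut.mul_apply,
        show MulAut.conj ((chevRel certF4 K).ne 24 c) (X 33 (φ a)) = X 33 (φ a) from by
          rw [MulAut.conj_apply, (cm c (φ a)).eq, mul_inv_cancel_right],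
        MulAut.conj_apply]
      refine e33.trans ?_
      show X (chevF4.neg 33) _ = _
      rw [n33, ← hc, map_pow]
      congr 1
      field_simp [(map_ne_zero φ).2 hc0]
    have f24 : MulAut.conj N (X 24 a) = X 23 1 := by
      rw [hN, map_mul, MulAut.mul_apply,
        show MulAut.conj ((chevRel certF4 K).ne 24 c) (X 24 a) = X 23 1 from by
          rw [MulAut.conj_apply]
          refine e24.trans ?_
          show X (chevF4.neg 24) _ = _
          rw [n24, ← hc]
          congr 1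
          field_simp,
        MulAut.conj_apply, (cm' _ _).eq, mul_inv_cancel_right]
    show MulAut.conj N (X 33 (φ a) * X 24 a) = X 14 (φ 1) * X 23 1
    rw [map_mul, f33, f24, map_one]
  refine Or.inr (Or.inl ((Cj.of_conj (hN ▸ D.tors c hc0) h1).trans (Cj.of_conj D.mem.mnA ?_)))
  exact nw_cA φ negPair 1

theorem good_C1u (z : K) : Good φ H (C1 φ 0 z) := by
  by_cases hz : z = 0
  · subst hz; exact Or.inl (cB_zero _ _ _ _)
  obtain ⟨c, hc⟩ := D.n1 z⁻¹
  have hc0 : c ≠ 0 := by rintro rfl; exact inv_ne_zero hz (by rw [← hc]; simp)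
  have hφc : φ c ≠ 0 := (map_ne_zero φ).2 hc0
  obtain ⟨l28, l30, k1, k2, k3, k4, k5, k6, r28, r30, i0, i3⟩ := scale28
  obtain ⟨s0, -, -, s3, -⟩ := negs
  have act : ∀ {i r : ℕ} (hi : i < chevF4.rank) (hr : r < chevF4.nroots) {d : K}, d ≠ 0 → ∀ t : K,
      MulAut.conj ((chevRel certF4 K).ne (chevF4.simple i) d) (X r t) =
        X (auxF4.w i r) (d ^ (-(chevF4.cartan i r)) * t) := by
    intro i r hi hr d hd t
    have h4 := ((chevRel certF4 K).isMon_ne_simple ⟨i, hi⟩ hd ⟨r, hr⟩).2.2.2 t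
    have he : ((auxF4.eta i r : ℤ) : K) = 1 := by
      rcases mul_self_eq_one_iff.1 (auxF4.eta_sq_cast (F := K) i r) with h | h
      · exact h
      · rw [h, CharTwo.neg_eq]
    simp only [he, one_mul] at h4
    exact h4
  have a28 := act i3 r28 hc0
  have a30 := act i3 r30 hc0
  have b28 := act i0 l28 hφc
  have b30 := act i0 l30 hφc
  rw [s3, k1] at a28
  rw [s3, k4] at a30
  rw [s0, k2, k3] at b28
  rw [s0, k5, k6] at b30
  have h1 : MulAut.conj ((chevRel certF4 K).ne 33 (φ c) * (chevRel certF4 K).ne 24 c) (C1 φ 0 z) = C2 φ 0 1 := by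
    have z0 : ∀ r, X r (0 : K) = 1 := (chevRel certF4 K).xe_zero
    show MulAut.conj _ (X 27 (φ 0) * (X 25 (0 : K) * (X 28 (φ 0 * 0 + z) * X 30 (φ z ^ (2 : ℕ))))) =
      X 34 (φ 0) * (X 26 (0 : K) * (X 36 (φ 0 * 0 + 1) * X 42 (φ 1 ^ (2 : ℕ))))
    rw [map_zero φ, map_one φ, one_pow, zero_mul, zero_add, zero_add, z0, z0, z0, z0]
    simp only [one_mul]
    rw [map_mul MulAut.conj, MulAut.mul_apply, map_mul, map_mul, a28, a30, b28, b30]
    refine congrArg₂ (fun g h : ↥(chevF4.group K) => g * h) (congrArg (X 36) ?_) (congrArg (X 42) ?_)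
    · simp only [neg_neg, zpow_one]
      rw [← mul_assoc, mul_comm (φ c), hc, inv_mul_cancel₀ hz]
    · simp only [neg_neg, zpow_one, zpow_two, show (-(-2 : ℤ)) = 2 from rfl]
      rw [← inv_inv z, ← hc, map_inv₀, map_mul, inv_pow, mul_pow, D.fix]
      field_simp
  exact Or.inr (Or.inr ((Cj.of_conj (D.tors c hc0) h1).trans (Cj.of_conj D.mem.mnA (nw_cB φ imgInv.1 0 1))))

theorem good_C2u (z : K) : Good φ H (C2 φ 0 z) :=
  (Cj.of_conj D.mem.mnA (nw_cB φ imgInv.1 0 z)).good (good_C1u D z)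

theorem good_C6u (z : K) : Good φ H (C6 φ 0 z) :=
  (Cj.of_conj D.mem.mnA (nw_cB φ imgInv.2.1 0 z)).good
    ((Cj.of_conj D.mem.mnB (nw_cB φ imgInv.2.2.1 0 z)).good (good_C2u D z))

theorem good_C5 (t : K) : Good φ H (C5 φ t) :=
  (Cj.of_conj D.mem.mnA (nw_cA φ imgInv.2.2.2.1 t)).good
    ((Cj.of_conj D.mem.mnB (nw_cA φ imgInv.2.2.2.2 t)).good (good_C0 D t))

/-! ### the central abelian part -/

omit D in
/-- the abelian subgroup of the five central coordinates -/
def eE (φ : K →+* K) (z2 z4 t5 z6 t7 : K) : ↥(chevF4.group K) := form φ 0 0 0 0 z2 0 0 z4 t5 0 z6 t7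

omit D in
theorem nB_E (z2 z4 t5 z6 t7 : K) : MulAut.conj (nB (K := K)) (eE φ z2 z4 t5 z6 t7) = eE φ z4 z2 t7 z6 t5 := by
  obtain ⟨b2, b4, b5, b7, b6, -⟩ := imgB
  have h := MonCollect.word_eq_of_chk (chevRel certF4 K) (atoms φ [z2, z4, t5, z6, t7]) swapE
  rw [word_formW' _ (by rfl)] at h
  simp only [MonCollect.word_append, w4, w2, w7, w6, w5,
    word_wB φ [z2, z4, t5, z6, t7] _ _ _ _ none (some 0) (by simp [inR]) (by simp [inR]),
    word_wB φ [z2, z4, t5, z6, t7] _ _ _ _ none (some 1) (by simp [inR]) (by simp [inR]),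
    word_wB φ [z2, z4, t5, z6, t7] _ _ _ _ none (some 3) (by simp [inR]) (by simp [inR]),
    word_wA φ [z2, z4, t5, z6, t7] _ _ (some 2) (by simp [inR]),
    word_wA φ [z2, z4, t5, z6, t7] _ _ (some 4) (by simp [inR])] at h
  simp only [po, List.getD_cons_zero, List.getD_cons_succ] at h
  simp only [eE, form, C0, C1, C2, C3, C4, C5, C6, C7, cA_zero, cB_zero, one_mul, map_mul, nw_cB φ b2, nw_cB φ b4,
    nw_cA φ b5, nw_cA φ b7, nw_cB φ b6] at h ⊢
  exact h

theorem good_E1 {z4 t5 z6 t7 : K} (h5 : t5 ≠ 0) : Good φ H (eE φ 0 z4 t5 z6 t7) := by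
  obtain ⟨t, ht⟩ := D.surj2 (t7 / t5)
  obtain ⟨u, hu⟩ : ∃ u, u = (z4 + φ t7 * φ t) / φ t5 := ⟨_, rfl⟩
  have h5' : φ t5 ≠ 0 := (map_ne_zero φ).2 h5
  obtain ⟨a', x1', y', x2', z2', t3', x4', z4', t5', x6', z6', t7', hc, hR⟩ := read_conj D.hf
    (p := [0, z4, t5, z6, t7, t, u]) (G := w1 (some 5) (some 6))
    (U := formW none none none none (some 0) none none (some 1) (some 2) none (some 3) (some 4))
    (T := [(24, []), (25, []), (28, []), (26, []), (36, [[1]]), (32, []), (31, []),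
    (40, [[0, 0, 1], [0, 0, 0, 0, 0, 0, 0, 0, 0, 1, 0, 1], [0, 0, 0, 0, 0, 1, 0, 0, 0, 0, 0, 0, 1],
      [1, 0, 0, 0, 0, 0, 0, 0, 0, 0, 0, 0, 0, 2], [1, 0, 0, 0, 0, 0, 0, 0, 0, 0, 0, 1, 1],
      [1, 0, 0, 0, 0, 0, 0, 0, 0, 0, 1, 2]]),
    (43, [[0, 0, 0, 0, 1], [0, 2, 0, 0, 0, 0, 0, 0, 0, 0, 1]]), (41, []),
    (44, [[0, 0, 0, 0, 0, 0, 1], [0, 0, 0, 0, 1, 0, 0, 0, 0, 0, 0, 1], [0, 2, 0, 0, 0, 0, 0, 0, 0, 0, 0, 0, 1]]),
    (45, [[0, 0, 0, 0, 0, 0, 0, 0, 1], [0, 0, 0, 0, 1, 0, 0, 0, 0, 0, 0, 2], [0, 2, 0, 0, 0, 0, 0, 0, 0, 0, 0, 0, 0, 2],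
      [0, 2, 0, 0, 0, 0, 0, 0, 0, 0, 1, 2]])])
    (by decide +kernel) (g := C1 φ t u) (x := eE φ 0 z4 t5 z6 t7)
    ((word_wB φ _ _ _ _ _ _ _ (by simp [inR]) (by simp [inR])).trans rfl)
    ((word_formW' _ (by rfl)).trans rfl)
    (D.mem.m1 _ _) (D.mem.form_mem _ _ _ _ _ _ _ _ _ _ _ _) (cB_UP (by decide +kernel) _ _) (form_mem_UP _ _ _ _ _ _ _ _ _ _ _ _ _)
  simp only [List.forall_mem_cons, List.not_mem_nil, IsEmpty.forall_iff, implies_true, and_true, fullAt, MonCollect.evalS, List.map_cons, List.map_nil, List.sum_cons, List.sum_nil, atoms, List.flatMap_cons, List.flatMap_nil, List.cons_append, List.nil_append, MonCollect.mon, pow_zero, pow_one, one_mul, mul_one, add_zero, zero_add, map_zero, mul_zero, zero_mul, zero_pow two_ne_zero] at hR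
  obtain ⟨rfl, rfl, rfl, rfl, e36, e32, e31, e40, e43, e41, e44, e45⟩ := hR
  try simp only [pow_zero, pow_one, one_mul, mul_one, add_zero, zero_add, map_zero, mul_zero, zero_mul, zero_pow two_ne_zero] at e36 e32 e31 e40 e43 e41 e44 e45
  subst e32 e31
  try simp only [pow_zero, pow_one, one_mul, mul_one, add_zero, zero_add, map_zero, mul_zero, zero_mul, zero_pow two_ne_zero] at e36 e40 e43 e41 e44 e45
  subst e41
  try simp only [pow_zero, pow_one, one_mul, mul_one, add_zero, zero_add, map_zero, mul_zero, zero_mul, zero_pow two_ne_zero] at e36 e40 e43 e44 e45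
  subst e36
  try simp only [pow_zero, pow_one, one_mul, mul_one, add_zero, zero_add, map_zero, mul_zero, zero_mul, zero_pow two_ne_zero] at e40 e43 e44 e45
  subst e43
  have h7 : t7' = 0 := by
    rw [ht] at e45
    field_simp at e45
    linear_combination e45 + t7 * CharTwo.two_eq_zero (R := K)
  subst h7
  try simp only [pow_zero, pow_one, one_mul, mul_one, add_zero, zero_add, map_zero, mul_zero, zero_mul, zero_pow two_ne_zero] at e40 e44
  have h4 : z4' = 0 := by
    rw [hu] at e40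
    field_simp at e40
    linear_combination e40 + (z4 + φ t7 * φ t) * CharTwo.two_eq_zero (R := K)
  subst h4
  refine hc.good ?_
  obtain ⟨x, hx⟩ := D.surjφ (z6' / φ t5')
  obtain ⟨a', x1', y', x2', z2', t3', x4', z4', t5'', x6', z6'', t7', hc, hR⟩ := read_conj D.hf
    (p := [t5', z6', x]) (G := w4 (some 2) none)
    (U := formW none none none none none none none none (some 0) none (some 1) none)
    (T := [(24, []), (25, []), (28, []), (26, []), (36, []), (32, []), (31, []), (40, []), (43, [[1]]), (41, []),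
    (44, [[0, 0, 1], [0, 1, 0, 0, 0, 1]]), (45, [])])
    (by decide +kernel) (g := C4 φ x 0) (x := form φ 0 0 0 0 0 0 0 0 t5' 0 z6' 0)
    ((word_wB φ _ _ _ _ _ _ _ (by simp [inR]) (by simp [inR])).trans rfl)
    ((word_formW' _ (by rfl)).trans rfl)
    (D.mem.m4 _ _) (D.mem.form_mem _ _ _ _ _ _ _ _ _ _ _ _) (cB_UP (by decide +kernel) _ _) (form_mem_UP _ _ _ _ _ _ _ _ _ _ _ _ _)
  simp only [List.forall_mem_cons, List.not_mem_nil, IsEmpty.forall_iff, implies_true, and_true, fullAt, MonCollect.evalS, List.map_cons, List.map_nil, List.sum_cons, List.sum_nil, atoms, List.flatMap_cons, List.flatMap_nil, List.cons_append, List.nil_append, MonCollect.mon, pow_zero, pow_one, one_mul, mul_one, add_zero, zero_add, map_zero, mul_zero, zero_mul, zero_pow two_ne_zero] at hR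
  obtain ⟨rfl, rfl, rfl, rfl, f36, f32, f31, f40, f43, f41, f44, f45⟩ := hR
  try simp only [pow_zero, pow_one, one_mul, mul_one, add_zero, zero_add, map_zero, mul_zero, zero_mul, zero_pow two_ne_zero] at f36 f32 f31 f40 f43 f41 f44 f45
  subst f32 f31
  try simp only [pow_zero, pow_one, one_mul, mul_one, add_zero, zero_add, map_zero, mul_zero, zero_mul, zero_pow two_ne_zero] at f36 f40 f43 f41 f44 f45
  subst f41
  try simp only [pow_zero, pow_one, one_mul, mul_one, add_zero, zero_add, map_zero, mul_zero, zero_mul, zero_pow two_ne_zero] at f36 f40 f43 f44 f45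
  subst f36
  try simp only [pow_zero, pow_one, one_mul, mul_one, add_zero, zero_add, map_zero, mul_zero, zero_mul, zero_pow two_ne_zero] at f40 f43 f44 f45
  subst f40 f43 f45
  try simp only [pow_zero, pow_one, one_mul, mul_one, add_zero, zero_add, map_zero, mul_zero, zero_mul, zero_pow two_ne_zero] at f44
  have h6 : z6'' = 0 := by
    rw [hx] at f44
    field_simp at f44
    linear_combination f44 + z6' * CharTwo.two_eq_zero (R := K)
  subst h6
  refine hc.good ?_
  rw [show form φ 0 0 0 0 0 0 0 0 t5'' 0 0 0 = C5 φ t5'' by simp only [form, cA_zero, cB_zero, one_mul, mul_one]]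
  exact good_C5 D _


/-- conjugation inside `U` and reading, packaged -/
theorem conj_step {p : List K} {G : List MonCollect.Term}
    {a x1 y x2 z2 t3 x4 z4 t5 x6 z6 t7 : Option ℕ} {T : List (ℕ × List (List ℕ))}
    {g : ↥(chevF4.group K)}
    (hT : chkTab (G ++ (formW a x1 y x2 z2 t3 x4 z4 t5 x6 z6 t7 ++ G.reverse)) T = true)
    (hr : chkRg p.length [a, x1, y, x2, z2, t3, x4, z4, t5, x6, z6, t7] = true)
    (hg : word (chevRel certF4 K) (atoms φ p) G = g) (hgH : g ∈ H) (hgU : g ∈ (chevRel certF4 K).UP) :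
    ∃ a' x1' y' x2' z2' t3' x4' z4' t5' x6' z6' t7' : K,
      Cj H (form φ (po p a) (po p x1) (po p y) (po p x2) (po p z2) (po p t3) (po p x4) (po p z4) (po p t5) (po p x6)
        (po p z6) (po p t7)) (form φ a' x1' y' x2' z2' t3' x4' z4' t5' x6' z6' t7') ∧
      ∀ e ∈ T, MonCollect.evalS (atoms φ [a', x1', y', x2', z2', t3', x4', z4', t5', x6', z6', t7']) (fullAt e.1) =
        MonCollect.evalS (atoms φ p) e.2 :=
  read_conj D.hf hT hg (word_formW' p hr) hgH (D.mem.form_mem _ _ _ _ _ _ _ _ _ _ _ _) hgU (form_mem_UP _ _ _ _ _ _ _ _ _ _ _ _ _)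

omit D in
/-- squaring and reading, packaged -/
theorem sq_step {p : List K} {a x1 y x2 z2 t3 x4 z4 t5 x6 z6 t7 : Option ℕ} {T : List (ℕ × List (List ℕ))}
    (hT : MonCollect.chkRead chevF4 (formW a x1 y x2 z2 t3 x4 z4 t5 x6 z6 t7 ++ formW a x1 y x2 z2 t3 x4 z4 t5 x6 z6 t7) T = true)
    (hr : chkRg p.length [a, x1, y, x2, z2, t3, x4, z4, t5, x6, z6, t7] = true) {g : ↥(chevF4.group K)}
    (e : form φ (po p a) (po p x1) (po p y) (po p x2) (po p z2) (po p t3) (po p x4) (po p z4) (po p t5) (po p x6)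
        (po p z6) (po p t7) = g) (h2 : g * g = 1) :
    ∀ e ∈ T, MonCollect.evalS (atoms φ p) e.2 = 0 :=
  read_sq φ hT ((word_formW' p hr).trans e) h2

/-- one element of type B2 with zero first coordinate, times the top class -/
theorem good_C2C6 {z : K} (hz : z ≠ 0) (w : K) : Good φ H (eE φ z 0 0 w 0) := by
  obtain ⟨x, hx⟩ := D.surjφ (w / z)
  obtain ⟨a', x1', y', x2', z2', t3', x4', z4', t5', x6', z6', t7', hc, hR⟩ := conj_step D
    (p := [z, w, x]) (G := w3 (some 2)) (a := none) (x1 := none) (y := none) (x2 := none) (z2 := some 0) (t3 := none)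
    (x4 := none) (z4 := none) (t5 := none) (x6 := none) (z6 := some 1) (t7 := none)
    (T := [(24, []), (25, []), (28, []), (26, []), (36, [[1]]), (32, []), (31, []), (40, []), (43, []), (41, []),
    (44, [[0, 0, 1], [1, 0, 0, 0, 0, 1]]), (45, [])]) (g := C3 φ x) (by decide +kernel) (by rfl)
    ((word_wA φ _ _ _ _ (by simp [inR])).trans rfl) (D.mem.m3 _) (cA_UP (by decide +kernel) _)
  simp only [List.forall_mem_cons, List.not_mem_nil, IsEmpty.forall_iff, implies_true, and_true, fullAt, MonCollect.evalS, List.map_cons, List.map_nil, List.sum_cons, List.sum_nil, atoms, List.flatMap_cons, List.flatMap_nil, List.cons_append, List.nil_append, MonCollect.mon, pow_zero, pow_one, one_mul, mul_one, add_zero, zero_add, map_zero, mul_zero, zero_mul, zero_pow two_ne_zero] at hR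
  obtain ⟨rfl, rfl, rfl, rfl, f36, f32, f31, f40, f43, f41, f44, f45⟩ := hR
  try simp only [pow_zero, pow_one, one_mul, mul_one, add_zero, zero_add, map_zero, mul_zero, zero_mul, zero_pow two_ne_zero] at f36 f32 f31 f40 f43 f41 f44 f45
  subst f32 f31
  try simp only [pow_zero, pow_one, one_mul, mul_one, add_zero, zero_add, map_zero, mul_zero, zero_mul, zero_pow two_ne_zero] at f36 f40 f43 f41 f44 f45
  subst f41
  try simp only [pow_zero, pow_one, one_mul, mul_one, add_zero, zero_add, map_zero, mul_zero, zero_mul, zero_pow two_ne_zero] at f36 f40 f43 f44 f45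
  subst f36
  try simp only [pow_zero, pow_one, one_mul, mul_one, add_zero, zero_add, map_zero, mul_zero, zero_mul, zero_pow two_ne_zero] at f40 f43 f44 f45
  subst f40 f43 f45
  try simp only [pow_zero, pow_one, one_mul, mul_one, add_zero, zero_add, map_zero, mul_zero, zero_mul, zero_pow two_ne_zero] at f44
  have h6 : z6' = 0 := by
    rw [hx] at f44
    field_simp at f44
    linear_combination f44 + w * CharTwo.two_eq_zero (R := K)
  subst h6
  simp only [po, List.getD_cons_zero, List.getD_cons_succ] at hc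
  refine hc.good ?_
  rw [show form φ 0 0 0 0 z2' 0 0 0 0 0 0 0 = C2 φ 0 z2' by simp only [form, cA_zero, cB_zero, one_mul, mul_one]]
  exact good_C2u D _

/-- the effect of an element of the class `B` on the central part -/
theorem conj_E (z2 z4 t5 z6 t7 t u : K) : ∃ z4' t5' z6' t7' : K,
    Cj H (eE φ z2 z4 t5 z6 t7) (eE φ z2 z4' t5' z6' t7') ∧ t5' = t5 + φ z2 ^ (2 : ℕ) * t ∧
    t7' = t7 + t5 * φ t ^ (2 : ℕ) + φ z2 ^ (2 : ℕ) * φ u ^ (2 : ℕ) + φ z2 ^ (2 : ℕ) * (t * φ t ^ (2 : ℕ)) ∧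
    z4' = z4 + φ t7 * φ t + φ t5 * u + z2 * φ u ^ (2 : ℕ) + z2 * (φ t * u) + z2 * (t * φ t ^ (2 : ℕ)) := by
  obtain ⟨a', x1', y', x2', z2', t3', x4', z4', t5', x6', z6', t7', hc, hR⟩ := conj_step D
    (p := [z2, z4, t5, z6, t7, t, u]) (G := w1 (some 5) (some 6)) (a := none) (x1 := none) (y := none) (x2 := none)
    (z2 := some 0) (t3 := none) (x4 := none) (z4 := some 1) (t5 := some 2) (x6 := none) (z6 := some 3) (t7 := some 4)
    (T := [(24, []), (25, []), (28, []), (26, []), (36, [[1]]), (32, []), (31, []),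
    (40, [[0, 0, 1], [0, 0, 0, 0, 0, 0, 0, 0, 0, 1, 0, 1], [0, 0, 0, 0, 0, 1, 0, 0, 0, 0, 0, 0, 1],
      [1, 0, 0, 0, 0, 0, 0, 0, 0, 0, 0, 0, 0, 2], [1, 0, 0, 0, 0, 0, 0, 0, 0, 0, 0, 1, 1],
      [1, 0, 0, 0, 0, 0, 0, 0, 0, 0, 1, 2]]),
    (43, [[0, 0, 0, 0, 1], [0, 2, 0, 0, 0, 0, 0, 0, 0, 0, 1]]), (41, []),
    (44, [[0, 0, 0, 0, 0, 0, 1], [0, 0, 0, 0, 1, 0, 0, 0, 0, 0, 0, 1], [0, 2, 0, 0, 0, 0, 0, 0, 0, 0, 0, 0, 1]]),
    (45, [[0, 0, 0, 0, 0, 0, 0, 0, 1], [0, 0, 0, 0, 1, 0, 0, 0, 0, 0, 0, 2], [0, 2, 0, 0, 0, 0, 0, 0, 0, 0, 0, 0, 0, 2],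
      [0, 2, 0, 0, 0, 0, 0, 0, 0, 0, 1, 2]])]) (g := C1 φ t u) (by decide +kernel) (by rfl)
    ((word_wB φ _ _ _ _ _ _ _ (by simp [inR]) (by simp [inR])).trans rfl) (D.mem.m1 _ _) (cB_UP (by decide +kernel) _ _)
  simp only [List.forall_mem_cons, List.not_mem_nil, IsEmpty.forall_iff, implies_true, and_true, fullAt, MonCollect.evalS, List.map_cons, List.map_nil, List.sum_cons, List.sum_nil, atoms, List.flatMap_cons, List.flatMap_nil, List.cons_append, List.nil_append, MonCollect.mon, pow_zero, pow_one, one_mul, mul_one, add_zero, zero_add, map_zero, mul_zero, zero_mul, zero_pow two_ne_zero] at hR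
  obtain ⟨rfl, rfl, rfl, rfl, f36, f32, f31, f40, f43, f41, f44, f45⟩ := hR
  try simp only [pow_zero, pow_one, one_mul, mul_one, add_zero, zero_add, map_zero, mul_zero, zero_mul, zero_pow two_ne_zero] at f36 f32 f31 f40 f43 f41 f44 f45
  subst f32 f31
  try simp only [pow_zero, pow_one, one_mul, mul_one, add_zero, zero_add, map_zero, mul_zero, zero_mul, zero_pow two_ne_zero] at f36 f40 f43 f41 f44 f45
  subst f41
  try simp only [pow_zero, pow_one, one_mul, mul_one, add_zero, zero_add, map_zero, mul_zero, zero_mul, zero_pow two_ne_zero] at f36 f40 f43 f44 f45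
  subst f36
  try simp only [pow_zero, pow_one, one_mul, mul_one, add_zero, zero_add, map_zero, mul_zero, zero_mul, zero_pow two_ne_zero] at f40 f43 f44 f45
  simp only [po, List.getD_cons_zero, List.getD_cons_succ] at hc
  exact ⟨z4', t5', z6', t7', hc, by linear_combination f43, by linear_combination f45, by linear_combination f40⟩

theorem good_E (z2 z4 t5 z6 t7 : K) : Good φ H (eE φ z2 z4 t5 z6 t7) := by
  have top : ∀ w : K, Good φ H (eE φ 0 0 0 w 0) := fun w => by
    rw [show eE φ 0 0 0 w 0 = C6 φ 0 w by simp only [eE, form, cA_zero, cB_zero, one_mul, mul_one]]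
    exact good_C6u D w
  have sw : ∀ {a b c d e : K}, Good φ H (eE φ b a e d c) → Good φ H (eE φ a b c d e) := fun h =>
    (Cj.of_conj D.mem.mnB (nB_E _ _ _ _ _)).good h
  -- the case of a nonzero first coordinate
  have hz : ∀ (z2 z4 t5 z6 t7 : K), z2 ≠ 0 → Good φ H (eE φ z2 z4 t5 z6 t7) := by
    intro z2 z4 t5 z6 t7 hz
    have hp : φ z2 ^ (2 : ℕ) ≠ 0 := pow_ne_zero _ ((map_ne_zero φ).2 hz)
    obtain ⟨t, ht⟩ : ∃ t, t = t5 / φ z2 ^ (2 : ℕ) := ⟨_, rfl⟩
    obtain ⟨z4, t5, z6, t7, hc, h5, -, -⟩ := conj_E D z2 z4 t5 z6 t7 t 0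
    refine hc.good ?_
    have h50 : t5 = 0 := by
      rw [h5, ht, mul_div_cancel₀ _ hp, CharTwo.add_self_eq_zero]
    subst h50
    obtain ⟨u, hu⟩ := D.surj2 (t7 / φ z2 ^ (2 : ℕ))
    obtain ⟨z4, t5, z6, t7, hc, h5, h7, -⟩ := conj_E D z2 z4 0 z6 t7 0 u
    refine hc.good ?_
    simp only [map_zero, mul_zero, add_zero, zero_mul, zero_pow two_ne_zero] at h5 h7
    subst h5
    have h70 : t7 = 0 := by
      rw [h7, hu, mul_div_cancel₀ _ hp, CharTwo.add_self_eq_zero]
    subst h70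
    by_cases h4 : z4 = 0
    · subst h4; exact good_C2C6 D hz z6
    obtain ⟨s, hs⟩ := D.n2 (z4 / z2)
    have hs0 : s ≠ 0 := by
      rintro rfl
      rw [zero_mul] at hs
      exact div_ne_zero h4 hz hs.symm
    obtain ⟨w4, w5, w6, w7, hc, -, h7', h4'⟩ := conj_E D z2 z4 0 z6 0 s 0
    refine hc.good (sw ?_)
    simp only [map_zero, mul_zero, add_zero, zero_mul, zero_pow two_ne_zero, zero_add] at h7' h4'
    have h40 : w4 = 0 := by
      rw [h4', hs, mul_div_cancel₀ _ hz, CharTwo.add_self_eq_zero]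
    subst h40
    refine good_E1 D ?_
    rw [h7']
    exact mul_ne_zero hp (mul_ne_zero hs0 (pow_ne_zero _ ((map_ne_zero φ).2 hs0)))
  by_cases h2 : z2 = 0
  swap
  · exact hz _ _ _ _ _ h2
  subst h2
  by_cases h5 : t5 = 0
  swap
  · exact good_E1 D h5
  subst h5
  by_cases h4 : z4 = 0
  swap
  · exact sw (hz _ _ _ _ _ h4)
  subst h4
  by_cases h7 : t7 = 0
  · subst h7; exact top z6
  · exact sw (good_E1 D h7)



/-- the last steps for a nonzero leading coordinate -/
theorem good_A_tail {a z4 z6 : K} (ha : a ≠ 0)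
    (h2 : form φ a 0 0 0 0 0 0 z4 0 0 z6 0 * form φ a 0 0 0 0 0 0 z4 0 0 z6 0 = 1) :
    Good φ H (form φ a 0 0 0 0 0 0 z4 0 0 z6 0) := by
  have hφa : φ a ≠ 0 := (map_ne_zero φ).2 ha
  have hR := sq_step (φ := φ) (p := [a, z4, z6]) (a := some 0) (x1 := none) (y := none) (x2 := none) (z2 := none)
    (t3 := none) (x4 := none) (z4 := some 1) (t5 := none) (x6 := none) (z6 := some 2) (t7 := none)
    (T := [(44, [[0, 1, 1]])]) (by decide +kernel) (by rfl) rfl h2
  simp only [List.forall_mem_cons, List.not_mem_nil, IsEmpty.forall_iff, implies_true, and_true, fullAt, MonCollect.evalS, List.map_cons, List.map_nil, List.sum_cons, List.sum_nil, atoms, List.flatMap_cons, List.flatMap_nil, List.cons_append, List.nil_append, MonCollect.mon, pow_zero, pow_one, one_mul, mul_one, add_zero, zero_add, map_zero, mul_zero, zero_mul, zero_pow two_ne_zero] at hR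
  have h4 : z4 = 0 := (mul_eq_zero.1 hR).resolve_left hφa
  subst h4
  clear hR
  obtain ⟨x, hx⟩ : ∃ x, x = z6 / φ a := ⟨_, rfl⟩
  obtain ⟨a', x1', y', x2', z2', t3', x4', z4', t5', x6', z6', t7', hc, hR⟩ := conj_step D
    (p := [a, z6, x]) (G := w4 none (some 2)) (a := some 0) (x1 := none) (y := none) (x2 := none) (z2 := none)
    (t3 := none) (x4 := none) (z4 := none) (t5 := none) (x6 := none) (z6 := some 1) (t7 := none)
    (T := [(24, [[1]]), (25, []), (28, []), (26, []), (36, []), (32, []), (31, []), (40, []), (43, []), (41, []),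
    (44, [[0, 0, 1], [0, 1, 0, 0, 1]]), (45, [])]) (g := C4 φ 0 x) (by decide +kernel) (by rfl)
    ((word_wB φ _ _ _ _ _ _ _ (by simp [inR]) (by simp [inR])).trans rfl) (D.mem.m4 _ _) (cB_UP (by decide +kernel) _ _)
  simp only [List.forall_mem_cons, List.not_mem_nil, IsEmpty.forall_iff, implies_true, and_true, fullAt, MonCollect.evalS, List.map_cons, List.map_nil, List.sum_cons, List.sum_nil, atoms, List.flatMap_cons, List.flatMap_nil, List.cons_append, List.nil_append, MonCollect.mon, pow_zero, pow_one, one_mul, mul_one, add_zero, zero_add, map_zero, mul_zero, zero_mul, zero_pow two_ne_zero] at hR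
  obtain ⟨rfl, rfl, rfl, rfl, f36, f32, f31, f40, f43, f41, f44, f45⟩ := hR
  try simp only [pow_zero, pow_one, one_mul, mul_one, add_zero, zero_add, map_zero, mul_zero, zero_mul, zero_pow two_ne_zero] at f36 f32 f31 f40 f43 f41 f44 f45
  subst f32 f31
  try simp only [pow_zero, pow_one, one_mul, mul_one, add_zero, zero_add, map_zero, mul_zero, zero_mul, zero_pow two_ne_zero] at f36 f40 f43 f41 f44 f45
  subst f41
  try simp only [pow_zero, pow_one, one_mul, mul_one, add_zero, zero_add, map_zero, mul_zero, zero_mul, zero_pow two_ne_zero] at f36 f40 f43 f44 f45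
  subst f36
  try simp only [pow_zero, pow_one, one_mul, mul_one, add_zero, zero_add, map_zero, mul_zero, zero_mul, zero_pow two_ne_zero] at f40 f43 f44 f45
  subst f43
  try simp only [pow_zero, pow_one, one_mul, mul_one, add_zero, zero_add, map_zero, mul_zero, zero_mul, zero_pow two_ne_zero] at f40 f44 f45
  subst f40
  try simp only [pow_zero, pow_one, one_mul, mul_one, add_zero, zero_add, map_zero, mul_zero, zero_mul, zero_pow two_ne_zero] at f44 f45
  subst f45
  try simp only [pow_zero, pow_one, one_mul, mul_one, add_zero, zero_add, map_zero, mul_zero, zero_mul, zero_pow two_ne_zero] at f44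
  have h6 : z6' = 0 := by
    rw [hx, mul_div_cancel₀ _ hφa, CharTwo.add_self_eq_zero] at f44
    exact f44
  subst h6
  refine hc.good ?_
  rw [show form φ a' 0 0 0 0 0 0 0 0 0 0 0 = C0 φ a' by simp only [form, cA_zero, cB_zero, one_mul, mul_one]]
  exact good_C0 D _

/-- the middle steps for a nonzero leading coordinate -/
theorem good_A_mid {a z2 x4 z4 t5 x6 z6 t7 : K} (ha : a ≠ 0)
    (h2 : form φ a 0 0 0 z2 0 x4 z4 t5 x6 z6 t7 * form φ a 0 0 0 z2 0 x4 z4 t5 x6 z6 t7 = 1) :
    Good φ H (form φ a 0 0 0 z2 0 x4 z4 t5 x6 z6 t7) := by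
  have hφa : φ a ≠ 0 := (map_ne_zero φ).2 ha
  have hφ0 : ∀ z : K, φ z = 0 → z = 0 := fun z => (map_eq_zero φ).1
  have hR := sq_step (φ := φ) (p := [a, z2, x4, z4, t5, x6, z6, t7]) (a := some 0) (x1 := none) (y := none)
    (x2 := none) (z2 := some 1) (t3 := none) (x4 := some 2) (z4 := some 3) (t5 := some 4) (x6 := some 5)
    (z6 := some 6) (t7 := some 7)
    (T := [(43, [[1, 0, 0, 0, 0, 2]]), (36, [[1, 0, 0, 0, 0, 1], [0, 1, 0, 0, 0, 0, 0, 0, 0, 0, 0, 1]])])
    (by decide +kernel) (by rfl) rfl h2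
  simp only [List.forall_mem_cons, List.not_mem_nil, IsEmpty.forall_iff, implies_true, and_true, fullAt, MonCollect.evalS, List.map_cons, List.map_nil, List.sum_cons, List.sum_nil, atoms, List.flatMap_cons, List.flatMap_nil, List.cons_append, List.nil_append, MonCollect.mon, pow_zero, pow_one, one_mul, mul_one, add_zero, zero_add, map_zero, mul_zero, zero_mul, zero_pow two_ne_zero] at hR
  obtain ⟨s43, s36⟩ := hR
  have h4 : x4 = 0 := hφ0 _ (pow_eq_zero_iff two_ne_zero |>.1 ((mul_eq_zero.1 s43).resolve_left ha))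
  subst h4
  try simp only [pow_zero, pow_one, one_mul, mul_one, add_zero, zero_add, map_zero, mul_zero, zero_mul, zero_pow two_ne_zero] at s36
  have h6 : x6 = 0 := hφ0 _ ((mul_eq_zero.1 s36).resolve_left hφa)
  subst h6
  clear s43 s36
  obtain ⟨x, hx⟩ := D.surj2 (t5 / a)
  obtain ⟨a', x1', y', x2', z2', t3', x4', z4', t5', x6', z6', t7', hc, hR⟩ := conj_step D
    (p := [a, z2, z4, t5, z6, t7, x]) (G := w4 (some 6) none) (a := some 0) (x1 := none) (y := none) (x2 := none)
    (z2 := some 1) (t3 := none) (x4 := none) (z4 := some 2) (t5 := some 3) (x6 := none) (z6 := some 4) (t7 := some 5)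
    (T := [(24, [[1]]), (25, []), (28, []), (26, []), (32, []), (31, []), (41, []),
    (43, [[0, 0, 0, 0, 0, 0, 1], [1, 0, 0, 0, 0, 0, 0, 0, 0, 0, 0, 0, 0, 2]])]) (g := C4 φ x 0) (by decide +kernel) (by rfl)
    ((word_wB φ _ _ _ _ _ _ _ (by simp [inR]) (by simp [inR])).trans rfl) (D.mem.m4 _ _) (cB_UP (by decide +kernel) _ _)
  simp only [List.forall_mem_cons, List.not_mem_nil, IsEmpty.forall_iff, implies_true, and_true, fullAt, MonCollect.evalS, List.map_cons, List.map_nil, List.sum_cons, List.sum_nil, atoms, List.flatMap_cons, List.flatMap_nil, List.cons_append, List.nil_append, MonCollect.mon, pow_zero, pow_one, one_mul, mul_one, add_zero, zero_add, map_zero, mul_zero, zero_mul, zero_pow two_ne_zero] at hR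
  obtain ⟨rfl, rfl, rfl, rfl, f32, f31, f41, f43⟩ := hR
  try simp only [pow_zero, pow_one, one_mul, mul_one, add_zero, zero_add, map_zero, mul_zero, zero_mul, zero_pow two_ne_zero] at f32 f31 f41 f43
  subst f32 f31
  try simp only [pow_zero, pow_one, one_mul, mul_one, add_zero, zero_add, map_zero, mul_zero, zero_mul, zero_pow two_ne_zero] at f41 f43
  subst f41
  try simp only [pow_zero, pow_one, one_mul, mul_one, add_zero, zero_add, map_zero, mul_zero, zero_mul, zero_pow two_ne_zero] at f43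
  have h5 : t5' = 0 := by
    rw [hx, mul_div_cancel₀ _ ha, CharTwo.add_self_eq_zero] at f43
    exact f43
  subst h5
  simp only [po, List.getD_cons_zero, List.getD_cons_succ] at hc
  refine hc.good ?_
  replace h2 := hc.sq h2
  clear hc hx
  obtain ⟨x, hx⟩ := D.surjφ (z2' / φ a')
  obtain ⟨a, x1, y, x2, z2, t3, x4, z4, t5, x6, z6, t7, hc, hR⟩ := conj_step D
    (p := [a', z2', z4', z6', t7', x]) (G := w6 (some 5) none) (a := some 0) (x1 := none) (y := none) (x2 := none)
    (z2 := some 1) (t3 := none) (x4 := none) (z4 := some 2) (t5 := none) (x6 := none) (z6 := some 3) (t7 := some 4)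
    (T := [(24, [[1]]), (25, []), (28, []), (26, []), (32, []), (31, []), (41, []), (43, []),
    (36, [[0, 0, 1], [0, 1, 0, 0, 0, 0, 0, 0, 0, 0, 0, 1]])]) (g := C6 φ x 0) (by decide +kernel) (by rfl)
    ((word_wB φ _ _ _ _ _ _ _ (by simp [inR]) (by simp [inR])).trans rfl) (D.mem.m6 _ _) (cB_UP (by decide +kernel) _ _)
  simp only [List.forall_mem_cons, List.not_mem_nil, IsEmpty.forall_iff, implies_true, and_true, fullAt, MonCollect.evalS, List.map_cons, List.map_nil, List.sum_cons, List.sum_nil, atoms, List.flatMap_cons, List.flatMap_nil, List.cons_append, List.nil_append, MonCollect.mon, pow_zero, pow_one, one_mul, mul_one, add_zero, zero_add, map_zero, mul_zero, zero_mul, zero_pow two_ne_zero] at hR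
  obtain ⟨rfl, rfl, rfl, rfl, f32, f31, f41, f43, f36⟩ := hR
  try simp only [pow_zero, pow_one, one_mul, mul_one, add_zero, zero_add, map_zero, mul_zero, zero_mul, zero_pow two_ne_zero] at f32 f31 f41 f43 f36
  subst f32 f31
  try simp only [pow_zero, pow_one, one_mul, mul_one, add_zero, zero_add, map_zero, mul_zero, zero_mul, zero_pow two_ne_zero] at f41 f43 f36
  subst f41
  try simp only [pow_zero, pow_one, one_mul, mul_one, add_zero, zero_add, map_zero, mul_zero, zero_mul, zero_pow two_ne_zero] at f43 f36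
  subst f43
  have h20 : z2 = 0 := by
    rw [hx, mul_div_cancel₀ _ hφa, CharTwo.add_self_eq_zero] at f36
    exact f36
  subst h20
  simp only [po, List.getD_cons_zero, List.getD_cons_succ] at hc
  refine hc.good ?_
  replace h2 := hc.sq h2
  clear hc hx
  obtain ⟨x, hx⟩ := D.surj2 (t7 / a)
  obtain ⟨r, hr⟩ := D.surj2 (φ a ^ (2 : ℕ) * x / a)
  obtain ⟨w, hw⟩ := D.surjφ (a * φ r / φ a)
  obtain ⟨a', x1', y', x2', z2', t3', x4', z4', t5', x6', z6', t7', hc, hR⟩ := conj_step D
    (p := [a, z4, z6, t7, x, r, w]) (G := w3 (some 4) ++ w4 (some 5) none ++ w6 (some 6) none)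
    (a := some 0) (x1 := none) (y := none) (x2 := none)
    (z2 := none) (t3 := none) (x4 := none) (z4 := some 1) (t5 := none) (x6 := none) (z6 := some 2) (t7 := some 3)
    (T := [(24, [[1]]), (25, []), (28, []), (26, []), (32, []), (31, []), (41, []),
    (43, [[0, 2, 0, 0, 0, 0, 0, 0, 1], [1, 0, 0, 0, 0, 0, 0, 0, 0, 0, 0, 2]]),
    (36, [[1, 0, 0, 0, 0, 0, 0, 0, 0, 0, 0, 1], [0, 1, 0, 0, 0, 0, 0, 0, 0, 0, 0, 0, 0, 1]]),
    (45, [[0, 0, 0, 0, 0, 0, 1], [1, 0, 0, 0, 0, 0, 0, 0, 0, 2]])]) (g := C3 φ x * C4 φ r 0 * C6 φ w 0) (by decide +kernel) (by rfl)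
    (by rw [MonCollect.word_append, MonCollect.word_append, word_wA φ _ _ _ _ (by simp [inR]),
      word_wB φ _ _ _ _ _ _ _ (by simp [inR]) (by simp [inR]), word_wB φ _ _ _ _ _ _ _ (by simp [inR]) (by simp [inR])]
        <;> rfl)
    (mul_mem (mul_mem (D.mem.m3 _) (D.mem.m4 _ _)) (D.mem.m6 _ _))
    (mul_mem (mul_mem (cA_UP (by decide +kernel) _) (cB_UP (by decide +kernel) _ _)) (cB_UP (by decide +kernel) _ _))
  simp only [List.forall_mem_cons, List.not_mem_nil, IsEmpty.forall_iff, implies_true, and_true, fullAt, MonCollect.evalS, List.map_cons, List.map_nil, List.sum_cons, List.sum_nil, atoms, List.flatMap_cons, List.flatMap_nil, List.cons_append, List.nil_append, MonCollect.mon, pow_zero, pow_one, one_mul, mul_one, add_zero, zero_add, map_zero, mul_zero, zero_mul, zero_pow two_ne_zero] at hR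
  obtain ⟨rfl, rfl, rfl, rfl, f32, f31, f41, f43, f36, f45⟩ := hR
  try simp only [pow_zero, pow_one, one_mul, mul_one, add_zero, zero_add, map_zero, mul_zero, zero_mul, zero_pow two_ne_zero] at f32 f31 f41 f43 f36 f45
  subst f32 f31
  try simp only [pow_zero, pow_one, one_mul, mul_one, add_zero, zero_add, map_zero, mul_zero, zero_mul, zero_pow two_ne_zero] at f41 f43 f36 f45
  subst f41
  try simp only [pow_zero, pow_one, one_mul, mul_one, add_zero, zero_add, map_zero, mul_zero, zero_mul, zero_pow two_ne_zero] at f43 f36 f45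
  have h5 : t5' = 0 := by
    rw [hr, mul_div_cancel₀ _ ha, CharTwo.add_self_eq_zero] at f43
    exact f43
  have h20 : z2' = 0 := by
    rw [hw, mul_div_cancel₀ _ hφa, CharTwo.add_self_eq_zero] at f36
    exact f36
  subst h5 h20
  try simp only [pow_zero, pow_one, one_mul, mul_one, add_zero, zero_add, map_zero, mul_zero, zero_mul, zero_pow two_ne_zero] at f45
  have h7 : t7' = 0 := by
    rw [hx, mul_div_cancel₀ _ ha, CharTwo.add_self_eq_zero] at f45
    exact f45
  subst h7
  simp only [po, List.getD_cons_zero, List.getD_cons_succ] at hc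
  exact hc.good (good_A_tail D ha (hc.sq h2))

/-- the first steps for a nonzero leading coordinate -/
theorem good_A {a y x2 z2 t3 x4 z4 t5 x6 z6 t7 : K} (ha : a ≠ 0)
    (h2 : form φ a 0 y x2 z2 t3 x4 z4 t5 x6 z6 t7 * form φ a 0 y x2 z2 t3 x4 z4 t5 x6 z6 t7 = 1) :
    Good φ H (form φ a 0 y x2 z2 t3 x4 z4 t5 x6 z6 t7) := by
  obtain ⟨x, hx⟩ : ∃ x, x = x2 / a := ⟨_, rfl⟩
  obtain ⟨a', x1', y', x2', z2', t3', x4', z4', t5', x6', z6', t7', hc, hR⟩ := conj_step D
    (p := [a, y, x2, z2, t3, x4, z4, t5, x6, z6, t7, x]) (G := w1 (some 11) none) (a := some 0) (x1 := none)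
    (y := some 1) (x2 := some 2) (z2 := some 3) (t3 := some 4) (x4 := some 5) (z4 := some 6) (t5 := some 7)
    (x6 := some 8) (z6 := some 9) (t7 := some 10)
    (T := [(24, [[1]]), (25, []), (26, [[0, 0, 0, 0, 1], [1, 0, 0, 0, 0, 0, 0, 0, 0, 0, 0, 0, 0, 0, 0, 0, 0, 0, 0, 0, 0, 0, 1]])]) (g := C1 φ x 0) (by decide +kernel) (by rfl)
    ((word_wB φ _ _ _ _ _ _ _ (by simp [inR]) (by simp [inR])).trans rfl) (D.mem.m1 _ _) (cB_UP (by decide +kernel) _ _)
  simp only [List.forall_mem_cons, List.not_mem_nil, IsEmpty.forall_iff, implies_true, and_true, fullAt, MonCollect.evalS, List.map_cons, List.map_nil, List.sum_cons, List.sum_nil, atoms, List.flatMap_cons, List.flatMap_nil, List.cons_append, List.nil_append, MonCollect.mon, pow_zero, pow_one, one_mul, mul_one, add_zero, zero_add, map_zero, mul_zero, zero_mul, zero_pow two_ne_zero] at hR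
  obtain ⟨rfl, rfl, f26⟩ := hR
  try simp only [pow_zero, pow_one, one_mul, mul_one, add_zero, zero_add, map_zero, mul_zero, zero_mul, zero_pow two_ne_zero] at f26
  have h20 : x2' = 0 := by
    rw [hx, mul_div_cancel₀ _ ha, CharTwo.add_self_eq_zero] at f26
    exact f26
  subst h20
  simp only [po, List.getD_cons_zero, List.getD_cons_succ] at hc
  refine hc.good ?_
  replace h2 := hc.sq h2
  clear hc hx
  have hR := sq_step (φ := φ) (p := [a', y', z2', t3', x4', z4', t5', x6', z6', t7']) (a := some 0) (x1 := none)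
    (y := some 1) (x2 := none) (z2 := some 2) (t3 := some 3) (x4 := some 4) (z4 := some 5) (t5 := some 6)
    (x6 := some 7) (z6 := some 8) (t7 := some 9) (T := [(32, [[1, 0, 2]])]) (by decide +kernel) (by rfl) rfl h2
  simp only [List.forall_mem_cons, List.not_mem_nil, IsEmpty.forall_iff, implies_true, and_true, fullAt, MonCollect.evalS, List.map_cons, List.map_nil, List.sum_cons, List.sum_nil, atoms, List.flatMap_cons, List.flatMap_nil, List.cons_append, List.nil_append, MonCollect.mon, pow_zero, pow_one, one_mul, mul_one, add_zero, zero_add, map_zero, mul_zero, zero_mul, zero_pow two_ne_zero] at hR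
  have hy : y' = 0 := pow_eq_zero_iff two_ne_zero |>.1 ((mul_eq_zero.1 hR).resolve_left ha)
  subst hy
  clear hR
  obtain ⟨x, hx⟩ := D.sqr (t3' / a')
  obtain ⟨a, x1, y, x2, z2, t3, x4, z4, t5, x6, z6, t7, hc, hR⟩ := conj_step D
    (p := [a', z2', t3', x4', z4', t5', x6', z6', t7', 0, x]) (G := w1 none (some 10)) (a := some 0) (x1 := none)
    (y := none) (x2 := none) (z2 := some 1) (t3 := some 2) (x4 := some 3) (z4 := some 4) (t5 := some 5)
    (x6 := some 6) (z6 := some 7) (t7 := some 8)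
    (T := [(24, [[1]]), (25, []), (28, []), (26, []),
    (32, [[0, 0, 0, 0, 1], [1, 0, 0, 0, 0, 0, 0, 0, 0, 0, 0, 0, 0, 0, 0, 0, 0, 0, 0, 0, 2]])]) (g := C1 φ 0 x) (by decide +kernel) (by rfl)
    ((word_wB φ _ _ _ _ _ _ _ (by simp [inR]) (by simp [inR])).trans rfl) (D.mem.m1 _ _) (cB_UP (by decide +kernel) _ _)
  simp only [List.forall_mem_cons, List.not_mem_nil, IsEmpty.forall_iff, implies_true, and_true, fullAt, MonCollect.evalS, List.map_cons, List.map_nil, List.sum_cons, List.sum_nil, atoms, List.flatMap_cons, List.flatMap_nil, List.cons_append, List.nil_append, MonCollect.mon, pow_zero, pow_one, one_mul, mul_one, add_zero, zero_add, map_zero, mul_zero, zero_mul, zero_pow two_ne_zero] at hR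
  obtain ⟨rfl, rfl, rfl, rfl, f32⟩ := hR
  try simp only [pow_zero, pow_one, one_mul, mul_one, add_zero, zero_add, map_zero, mul_zero, zero_mul, zero_pow two_ne_zero] at f32
  have h30 : t3 = 0 := by
    rw [hx, mul_div_cancel₀ _ ha, CharTwo.add_self_eq_zero] at f32
    exact f32
  subst h30
  simp only [po, List.getD_cons_zero, List.getD_cons_succ] at hc
  exact hc.good (good_A_mid D ha (hc.sq h2))

omit D in
theorem imgR : MonCollect.chkRead chevF4 (w4 none (some 0) ++ w0 (some 1) ++ w2 (some 2) (some 3) ++ w7 (some 4) ++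
    w6 (some 5) (some 6) ++ w5 (some 7)) [(24, [[0, 0, 1]]), (25, [])] = true := by decide +kernel

/-- zero first coordinates -/
theorem good_R {x2 z2 t3 x4 z4 t5 x6 z6 t7 : K}
    (h2 : form φ 0 0 0 x2 z2 t3 x4 z4 t5 x6 z6 t7 * form φ 0 0 0 x2 z2 t3 x4 z4 t5 x6 z6 t7 = 1) :
    Good φ H (form φ 0 0 0 x2 z2 t3 x4 z4 t5 x6 z6 t7) := by
  have hφ0 : ∀ z : K, z * φ z = 0 → z = 0 := fun z e => (mul_eq_zero.1 e).elim id (map_eq_zero φ).1
  have hR := sq_step (φ := φ) (p := [x2, z2, t3, x4, z4, t5, x6, z6, t7]) (a := none) (x1 := none) (y := none)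
    (x2 := some 0) (z2 := some 1) (t3 := some 2) (x4 := some 3) (z4 := some 4) (t5 := some 5) (x6 := some 6)
    (z6 := some 7) (t7 := some 8) (T := [(36, [[1, 1]])]) (by decide +kernel) (by rfl) rfl h2
  simp only [List.forall_mem_cons, List.not_mem_nil, IsEmpty.forall_iff, implies_true, and_true, fullAt, MonCollect.evalS, List.map_cons, List.map_nil, List.sum_cons, List.sum_nil, atoms, List.flatMap_cons, List.flatMap_nil, List.cons_append, List.nil_append, MonCollect.mon, pow_zero, pow_one, one_mul, mul_one, add_zero, zero_add, map_zero, mul_zero, zero_mul, zero_pow two_ne_zero] at hR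
  have hx2 := hφ0 _ hR
  subst hx2
  clear hR
  by_cases h3 : t3 = 0
  · subst h3
    have hR := sq_step (φ := φ) (p := [z2, x4, z4, t5, x6, z6, t7]) (a := none) (x1 := none) (y := none) (x2 := none)
      (z2 := some 0) (t3 := none) (x4 := some 1) (z4 := some 2) (t5 := some 3) (x6 := some 4) (z6 := some 5)
      (t7 := some 6) (T := [(40, [[0, 0, 1, 1]]),
        (44, [[0, 0, 0, 0, 0, 0, 0, 0, 1, 1], [0, 0, 0, 1, 0, 0, 0, 1]])]) (by decide +kernel) (by rfl) rfl h2
    simp only [List.forall_mem_cons, List.not_mem_nil, IsEmpty.forall_iff, implies_true, and_true, fullAt, MonCollect.evalS, List.map_cons, List.map_nil, List.sum_cons, List.sum_nil, atoms, List.flatMap_cons, List.flatMap_nil, List.cons_append, List.nil_append, MonCollect.mon, pow_zero, pow_one, one_mul, mul_one, add_zero, zero_add, map_zero, mul_zero, zero_mul, zero_pow two_ne_zero] at hR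
    obtain ⟨s40, s44⟩ := hR
    have h4 := hφ0 _ s40
    subst h4
    try simp only [pow_zero, pow_one, one_mul, mul_one, add_zero, zero_add, map_zero, mul_zero, zero_mul, zero_pow two_ne_zero] at s44
    have h6 := hφ0 _ s44
    subst h6
    exact good_E D z2 z4 t5 z6 t7
  · obtain ⟨b2, b4, b5, b7, b6, b3⟩ := imgB
    obtain ⟨p, hp⟩ : ∃ p, p = [z2, t3, x4, z4, t5, x6, z6, t7] := ⟨_, rfl⟩
    obtain ⟨W, hW⟩ : ∃ W, W = C4 φ 0 z2 * C0 φ t3 * C2 φ x4 z4 * C7 φ t5 * C6 φ x6 z6 * C5 φ t7 := ⟨_, rfl⟩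
    have hwW : word (chevRel certF4 K) (atoms φ p) (w4 none (some 0) ++ w0 (some 1) ++ w2 (some 2) (some 3) ++
        w7 (some 4) ++ w6 (some 5) (some 6) ++ w5 (some 7)) = W := by
      subst hp
      rw [hW]
      simp only [MonCollect.word_append, w0, w2, w4, w5, w6, w7]
      rw [word_wA φ _ _ _ _ (by simp [inR]), word_wA φ _ _ _ _ (by simp [inR]), word_wA φ _ _ _ _ (by simp [inR]),
        word_wB φ _ _ _ _ _ _ _ (by simp [inR]) (by simp [inR]), word_wB φ _ _ _ _ _ _ _ (by simp [inR]) (by simp [inR]),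
        word_wB φ _ _ _ _ _ _ _ (by simp [inR]) (by simp [inR])]
      rfl
    have e1 : MulAut.conj (nB (K := K)) (form φ 0 0 0 0 z2 t3 x4 z4 t5 x6 z6 t7) = W := by
      rw [hW]
      simp only [form, C0, C1, C2, C3, C4, C5, C6, C7, cA_zero, cB_zero, one_mul, map_mul, nw_cB φ b2, nw_cB φ b4,
        nw_cA φ b3, nw_cA φ b5, nw_cA φ b7, nw_cB φ b6, mul_assoc]
    have hWU : W ∈ (chevRel certF4 K).UP := by
      rw [hW]
      exact mul_mem (mul_mem (mul_mem (mul_mem (mul_mem (cB_UP (by decide +kernel) _ _) (cA_UP (by decide +kernel) _))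
        (cB_UP (by decide +kernel) _ _)) (cA_UP (by decide +kernel) _)) (cB_UP (by decide +kernel) _ _))
        (cA_UP (by decide +kernel) _)
    have hWH : W ∈ H := by
      rw [hW]
      exact mul_mem (mul_mem (mul_mem (mul_mem (mul_mem (D.mem.m4 _ _) (D.mem.m0 _)) (D.mem.m2 _ _)) (D.mem.m7 _))
        (D.mem.m6 _ _)) (D.mem.m5 _)
    obtain ⟨a', x1', y', x2', z2', t3', x4', z4', t5', x6', z6', t7', e⟩ := D.hf W hWH hWU
    have hR := read_form φ (p := p) (L := w4 none (some 0) ++ w0 (some 1) ++ w2 (some 2) (some 3) ++ w7 (some 4) ++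
      w6 (some 5) (some 6) ++ w5 (some 7)) (T := [(24, [[0, 0, 1]]), (25, [])])
      (by decide +kernel) (e.trans hwW.symm)
    subst hp
    simp only [List.forall_mem_cons, List.not_mem_nil, IsEmpty.forall_iff, implies_true, and_true, fullAt, MonCollect.evalS, List.map_cons, List.map_nil, List.sum_cons, List.sum_nil, atoms, List.flatMap_cons, List.flatMap_nil, List.cons_append, List.nil_append, MonCollect.mon, pow_zero, pow_one, one_mul, mul_one, add_zero, zero_add, map_zero, mul_zero, zero_mul, zero_pow two_ne_zero] at hR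
    obtain ⟨rfl, rfl⟩ := hR
    have hc := Cj.of_conj D.mem.mnB (e1.trans e.symm)
    exact hc.good (good_A D h3 (hc.sq h2))

/-- zero first coordinate of type A1 × A1 -/
theorem good_y {y x2 z2 t3 x4 z4 t5 x6 z6 t7 : K} (hy : y ≠ 0)
    (h2 : form φ 0 0 y x2 z2 t3 x4 z4 t5 x6 z6 t7 * form φ 0 0 y x2 z2 t3 x4 z4 t5 x6 z6 t7 = 1) :
    Good φ H (form φ 0 0 y x2 z2 t3 x4 z4 t5 x6 z6 t7) := by
  have hp : φ y ^ (2 : ℕ) ≠ 0 := pow_ne_zero _ ((map_ne_zero φ).2 hy)
  have hR := sq_step (φ := φ) (p := [y, x2, z2, t3, x4, z4, t5, x6, z6, t7]) (a := none) (x1 := none) (y := some 0)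
    (x2 := some 1) (z2 := some 2) (t3 := some 3) (x4 := some 4) (z4 := some 5) (t5 := some 6) (x6 := some 7)
    (z6 := some 8) (t7 := some 9) (T := [(32, [[0, 2, 1]])]) (by decide +kernel) (by rfl) rfl h2
  simp only [List.forall_mem_cons, List.not_mem_nil, IsEmpty.forall_iff, implies_true, and_true, fullAt, MonCollect.evalS, List.map_cons, List.map_nil, List.sum_cons, List.sum_nil, atoms, List.flatMap_cons, List.flatMap_nil, List.cons_append, List.nil_append, MonCollect.mon, pow_zero, pow_one, one_mul, mul_one, add_zero, zero_add, map_zero, mul_zero, zero_mul, zero_pow two_ne_zero] at hR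
  have hx2 : x2 = 0 := (mul_eq_zero.1 hR).resolve_left hp
  subst hx2
  clear hR
  obtain ⟨t, ht⟩ : ∃ t, t = x4 / φ y ^ (2 : ℕ) := ⟨_, rfl⟩
  obtain ⟨s, hs⟩ : ∃ s, s = (t3 + y ^ (2 : ℕ) * t) / φ y ^ (2 : ℕ) := ⟨_, rfl⟩
  obtain ⟨a', x1', y', x2', z2', t3', x4', z4', t5', x6', z6', t7', hc, hR⟩ := conj_step D
    (p := [y, z2, t3, x4, z4, t5, x6, z6, t7, t, s]) (G := w0 (some 9) ++ w2 (some 10) none) (a := none)
    (x1 := none) (y := some 0) (x2 := none) (z2 := some 1) (t3 := some 2) (x4 := some 3) (z4 := some 4)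
    (t5 := some 5) (x6 := some 6) (z6 := some 7) (t7 := some 8)
    (T := [(24, []), (25, []), (28, [[1]]), (26, []),
    (32, [[0, 0, 0, 0, 1], [0, 2, 0, 0, 0, 0, 0, 0, 0, 0, 0, 0, 0, 0, 0, 0, 0, 0, 0, 0, 1],
      [2, 0, 0, 0, 0, 0, 0, 0, 0, 0, 0, 0, 0, 0, 0, 0, 0, 0, 1]]),
    (31, [[0, 0, 0, 0, 0, 0, 1], [0, 2, 0, 0, 0, 0, 0, 0, 0, 0, 0, 0, 0, 0, 0, 0, 0, 0, 1]])]) (g := C0 φ t * C2 φ s 0) (by decide +kernel) (by rfl)
    (by rw [MonCollect.word_append, word_wA φ _ _ _ _ (by simp [inR]),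
      word_wB φ _ _ _ _ _ _ _ (by simp [inR]) (by simp [inR])] <;> rfl)
    (mul_mem (D.mem.m0 _) (D.mem.m2 _ _)) (mul_mem (cA_UP (by decide +kernel) _) (cB_UP (by decide +kernel) _ _))
  simp only [List.forall_mem_cons, List.not_mem_nil, IsEmpty.forall_iff, implies_true, and_true, fullAt, MonCollect.evalS, List.map_cons, List.map_nil, List.sum_cons, List.sum_nil, atoms, List.flatMap_cons, List.flatMap_nil, List.cons_append, List.nil_append, MonCollect.mon, pow_zero, pow_one, one_mul, mul_one, add_zero, zero_add, map_zero, mul_zero, zero_mul, zero_pow two_ne_zero] at hR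
  obtain ⟨rfl, rfl, rfl, rfl, f32, f31⟩ := hR
  try simp only [pow_zero, pow_one, one_mul, mul_one, add_zero, zero_add, map_zero, mul_zero, zero_mul, zero_pow two_ne_zero] at f32 f31
  have h4 : x4' = 0 := by
    rw [ht, mul_div_cancel₀ _ hp, CharTwo.add_self_eq_zero] at f31
    exact f31
  have h3 : t3' = 0 := by
    rw [hs, mul_div_cancel₀ _ hp] at f32
    linear_combination f32 + (t3 + y' ^ (2 : ℕ) * t) * CharTwo.two_eq_zero (R := K)
  subst h3 h4
  simp only [po, List.getD_cons_zero, List.getD_cons_succ] at hc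
  refine hc.good ?_
  replace h2 := hc.sq h2
  clear hc hs ht f32 f31
  have hR := sq_step (φ := φ) (p := [y', z2', z4', t5', x6', z6', t7']) (a := none) (x1 := none) (y := some 0)
    (x2 := none) (z2 := some 1) (t3 := none) (x4 := none) (z4 := some 2) (t5 := some 3) (x6 := some 4)
    (z6 := some 5) (t7 := some 6) (T := [(45, [[0, 2, 0, 2]]), (40, [[0, 2, 1], [1, 0, 0, 0, 0, 0, 0, 1]]),
      (44, [[0, 0, 0, 0, 0, 0, 0, 0, 1, 1], [1, 0, 0, 2]])]) (by decide +kernel) (by rfl) rfl h2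
  simp only [List.forall_mem_cons, List.not_mem_nil, IsEmpty.forall_iff, implies_true, and_true, fullAt, MonCollect.evalS, List.map_cons, List.map_nil, List.sum_cons, List.sum_nil, atoms, List.flatMap_cons, List.flatMap_nil, List.cons_append, List.nil_append, MonCollect.mon, pow_zero, pow_one, one_mul, mul_one, add_zero, zero_add, map_zero, mul_zero, zero_mul, zero_pow two_ne_zero] at hR
  obtain ⟨s45, s40, s44⟩ := hR
  have h20 : z2' = 0 := (map_eq_zero φ).1 (pow_eq_zero_iff two_ne_zero |>.1 ((mul_eq_zero.1 s45).resolve_left hp))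
  subst h20
  try simp only [pow_zero, pow_one, one_mul, mul_one, add_zero, zero_add, map_zero, mul_zero, zero_mul, zero_pow two_ne_zero] at s40 s44
  have h5 : t5' = 0 := (map_eq_zero φ).1 ((mul_eq_zero.1 s40).resolve_left hy)
  have h6 : x6' = 0 := (mul_eq_zero.1 s44).elim id (map_eq_zero φ).1
  subst h5 h6
  clear s45 s40 s44
  obtain ⟨z, hz⟩ := D.surj2 (t7' / φ y' ^ (2 : ℕ))
  obtain ⟨r, hr⟩ := D.surjφ ((z4' + φ y' ^ (2 : ℕ) * z) / y')
  obtain ⟨a, x1, y, x2, z2, t3, x4, z4, t5, x6, z6, t7, hc, hR⟩ := conj_step D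
    (p := [y', z4', z6', t7', z, r]) (G := w2 none (some 4) ++ w5 (some 5)) (a := none) (x1 := none) (y := some 0)
    (x2 := none) (z2 := none) (t3 := none) (x4 := none) (z4 := some 1) (t5 := none) (x6 := none) (z6 := some 2)
    (t7 := some 3) (T := [(24, []), (25, []), (28, [[1]]), (26, []), (36, []), (32, []), (31, []),
    (40, [[0, 0, 1], [0, 2, 0, 0, 0, 0, 0, 0, 1], [1, 0, 0, 0, 0, 0, 0, 0, 0, 0, 0, 1]]), (43, []), (41, []),
    (44, [[0, 0, 0, 0, 1], [1, 0, 0, 0, 0, 0, 0, 0, 0, 2]]),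
    (45, [[0, 0, 0, 0, 0, 0, 1], [0, 2, 0, 0, 0, 0, 0, 0, 0, 2]])]) (g := C2 φ 0 z * C5 φ r) (by decide +kernel) (by rfl)
    (by rw [MonCollect.word_append, word_wB φ _ _ _ _ _ _ _ (by simp [inR]) (by simp [inR]),
      word_wA φ _ _ _ _ (by simp [inR])] <;> rfl)
    (mul_mem (D.mem.m2 _ _) (D.mem.m5 _)) (mul_mem (cB_UP (by decide +kernel) _ _) (cA_UP (by decide +kernel) _))
  simp only [List.forall_mem_cons, List.not_mem_nil, IsEmpty.forall_iff, implies_true, and_true, fullAt, MonCollect.evalS, List.map_cons, List.map_nil, List.sum_cons, List.sum_nil, atoms, List.flatMap_cons, List.flatMap_nil, List.cons_append, List.nil_append, MonCollect.mon, pow_zero, pow_one, one_mul, mul_one, add_zero, zero_add, map_zero, mul_zero, zero_mul, zero_pow two_ne_zero] at hR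
  obtain ⟨rfl, rfl, rfl, rfl, f36, f32, f31, f40, f43, f41, f44, f45⟩ := hR
  try simp only [pow_zero, pow_one, one_mul, mul_one, add_zero, zero_add, map_zero, mul_zero, zero_mul, zero_pow two_ne_zero] at f36 f32 f31 f40 f43 f41 f44 f45
  subst f32 f31
  try simp only [pow_zero, pow_one, one_mul, mul_one, add_zero, zero_add, map_zero, mul_zero, zero_mul, zero_pow two_ne_zero] at f36 f40 f43 f41 f44 f45
  subst f41
  try simp only [pow_zero, pow_one, one_mul, mul_one, add_zero, zero_add, map_zero, mul_zero, zero_mul, zero_pow two_ne_zero] at f36 f40 f43 f44 f45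
  subst f36
  try simp only [pow_zero, pow_one, one_mul, mul_one, add_zero, zero_add, map_zero, mul_zero, zero_mul, zero_pow two_ne_zero] at f40 f43 f44 f45
  subst f43
  try simp only [pow_zero, pow_one, one_mul, mul_one, add_zero, zero_add, map_zero, mul_zero, zero_mul, zero_pow two_ne_zero] at f40 f44 f45
  have h7 : t7 = 0 := by
    rw [hz, mul_div_cancel₀ _ hp, CharTwo.add_self_eq_zero] at f45
    exact f45
  subst h7
  try simp only [pow_zero, pow_one, one_mul, mul_one, add_zero, zero_add, map_zero, mul_zero, zero_mul, zero_pow two_ne_zero] at f40 f44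
  have h4 : z4 = 0 := by
    rw [hr, mul_div_cancel₀ _ hy] at f40
    linear_combination f40 + (z4' + φ y ^ (2 : ℕ) * z) * CharTwo.two_eq_zero (R := K)
  subst h4
  simp only [po, List.getD_cons_zero, List.getD_cons_succ] at hc
  refine hc.good ((Cj.of_conj D.mem.mnA (g' := eE φ y z6 0 0 0) ?_).good (good_E D _ _ _ _ _))
  simp only [eE, form, C0, C1, C2, C3, C4, C5, C6, C7, cA_zero, cB_zero, one_mul, mul_one, map_mul]
  rw [nw_cB φ imgA.1, nw_cB φ imgA.2]

/-- every involution in normal form is conjugate to a representative -/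
theorem good_form {a x1 y x2 z2 t3 x4 z4 t5 x6 z6 t7 : K}
    (h2 : form φ a x1 y x2 z2 t3 x4 z4 t5 x6 z6 t7 * form φ a x1 y x2 z2 t3 x4 z4 t5 x6 z6 t7 = 1) :
    Good φ H (form φ a x1 y x2 z2 t3 x4 z4 t5 x6 z6 t7) := by
  have hR := sq_step (φ := φ) (p := [a, x1, y, x2, z2, t3, x4, z4, t5, x6, z6, t7]) (a := some 0) (x1 := some 1)
    (y := some 2) (x2 := some 3) (z2 := some 4) (t3 := some 5) (x4 := some 6) (z4 := some 7) (t5 := some 8)
    (x6 := some 9) (z6 := some 10) (t7 := some 11) (T := [(28, [[0, 0, 1, 1]])]) (by decide +kernel) (by rfl) rfl h2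
  simp only [List.forall_mem_cons, List.not_mem_nil, IsEmpty.forall_iff, implies_true, and_true, fullAt, MonCollect.evalS, List.map_cons, List.map_nil, List.sum_cons, List.sum_nil, atoms, List.flatMap_cons, List.flatMap_nil, List.cons_append, List.nil_append, MonCollect.mon, pow_zero, pow_one, one_mul, mul_one, add_zero, zero_add, map_zero, mul_zero, zero_mul, zero_pow two_ne_zero] at hR
  have h1 : x1 = 0 := (mul_eq_zero.1 hR).elim id (map_eq_zero φ).1
  subst h1
  by_cases ha : a = 0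
  · subst ha
    by_cases hy : y = 0
    · subst hy; exact good_R D h2
    · exact good_y D hy h2
  · exact good_A D ha h2


end CfsgLib.Lie.Chev.TwGroups.F4Inv
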