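/-
The two classes of involutions of `²F₄(q)` and of the Tits group.
-/
import Cfsg.Agent.Lib.Lie.Twisted.F4Inv.Red
import Cfsg.Agent.Lib.Lie.Twisted.F4Inv.Distinct
import Cfsg.Agent.Lib.Lie.Twisted.F4Torus
import Cfsg.Agent.Lib.Lie.Twisted.Tits.Inst

set_option autoImplicit false
set_option linter.unusedSimpArgs false
set_option linter.unusedVariables false

namespace CfsgLib.Lie.Chev.TwGroups.F4Inv

open Cfsg.Lie
open scoped Pointwise

theorem full_tab : chkTab fullW (rdRoots.map fun r => (r, fullAt r)) = true := by decide +kernel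

theorem rdRoots_eq : rdRoots = [24, 25, 28, 26, 36, 32, 31, 40, 43, 41, 44, 45] := rfl

theorem form_injective {K : Type*} [Field K] [CharP K 2] (φ : K →+* K)
    {a x1 y x2 z2 t3 x4 z4 t5 x6 z6 t7 a' x1' y' x2' z2' t3' x4' z4' t5' x6' z6' t7' : K}
    (h : form φ a x1 y x2 z2 t3 x4 z4 t5 x6 z6 t7 = form φ a' x1' y' x2' z2' t3' x4' z4' t5' x6' z6' t7') :
    a = a' ∧ x1 = x1' ∧ y = y' ∧ x2 = x2' ∧ z2 = z2' ∧ t3 = t3' ∧ x4 = x4' ∧ z4 = z4' ∧ t5 = t5' ∧ x6 = x6' ∧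
      z6 = z6' ∧ t7 = t7' := by
  have hR := read_form φ (p := [a', x1', y', x2', z2', t3', x4', z4', t5', x6', z6', t7']) full_tab
    (h.trans (word_fullW φ a' x1' y' x2' z2' t3' x4' z4' t5' x6' z6' t7').symm)
  simp only [rdRoots_eq, List.map_cons, List.map_nil, List.forall_mem_cons, List.not_mem_nil, IsEmpty.forall_iff,
    implies_true, and_true, fullAt, MonCollect.evalS, List.sum_cons, List.sum_nil, atoms, List.flatMap_cons,
    List.flatMap_nil, List.cons_append, List.nil_append, MonCollect.mon, pow_zero, pow_one, one_mul, mul_one,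
    add_zero] at hR
  obtain ⟨rfl, rfl, rfl, rfl, e36, e32, e31, e40, e43, e41, e44, e45⟩ := hR
  obtain rfl : t3 = t3' := by linear_combination e32
  obtain rfl : x4 = x4' := by linear_combination e31
  obtain rfl : x6 = x6' := by linear_combination e41
  obtain rfl : z2 = z2' := by linear_combination e36
  obtain rfl : t5 = t5' := by linear_combination e43
  obtain rfl : t7 = t7' := by linear_combination e45
  obtain rfl : z4 = z4' := by linear_combination e40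
  obtain rfl : z6 = z6' := by linear_combination e44
  exact ⟨rfl, rfl, rfl, rfl, rfl, rfl, rfl, rfl, rfl, rfl, rfl, rfl⟩

variable {K : Type*} [Field K] [Fintype K] {m : ℕ} (hK : Fintype.card K = 2 ^ (2 * m + 1))
include hK

/-- the fixed group -/
abbrev P1 (m : ℕ) : Subgroup ↥(chevF4.group K) := (twistedF4 K (2 ^ m)).subgroupOf (chevF4.group K)

theorem cA_word (a b : ℕ) (h : (a, b) ∈ [(f4p1, f4p4), (f4m1, f4m4)]) (t : K) :
    cA (frF4 hK) a b t ∈ P1 m := by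
  simp only [cA, frF4_apply]
  exact wordF4_pair_mem h t

theorem cB_word (a b c d : ℕ) (h : (a, b, c, d) ∈ [(f4a, f4b, f4ab, f4aab), (f4ma, f4mb, f4mab, f4maab)])
    (t u : K) : cB (frF4 hK) a b c d t u ∈ P1 m := by
  simp only [cB, frF4_apply]
  exact wordF4_quad_mem hK h t u

theorem memF4 : Mem (frF4 hK) (P1 m) :=
  haveI := charF4 hK
  mem_of_gens (frF4 hK) (fun t => cA_word hK 33 24 (by decide) t) (fun t => cA_word hK 14 23 (by decide) t)
    (fun t u => cB_word hK 27 25 28 30 (by decide) t u) (fun t u => cB_word hK 20 22 19 17 (by decide) t u)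

theorem tors_mem (c : K) : (chevRel certF4 K).ne 33 (frF4 hK c) * (chevRel certF4 K).ne 24 c ∈ P1 m := by
  haveI := charF4 hK
  obtain ⟨⟨c1, -, c2, c3⟩, -, -⟩ := commF4
  obtain ⟨-, ⟨n33, n24, -⟩, -⟩ := simpleF4
  rw [← ne_pair certF4 c1 (by rw [n24]; exact c2) (by rw [n33]; exact c3), n33, n24]
  refine mul_mem (mul_mem ((memF4 hK).m0 c) ?_) ((memF4 hK).m0 c)
  have h := cA_word hK 14 23 (by decide) c⁻¹
  simp only [cA, map_inv₀] at h
  simpa only [CharTwo.neg_eq] using h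

theorem frF4_fix (x : K) : frF4 hK (frF4 hK x) ^ (2 : ℕ) = x := by
  rw [frF4_apply, frF4_apply]
  exact pow_twF4 hK x

theorem norm_surj1 : ∀ x : K, ∃ z, z * frF4 hK z = x := by
  haveI := charF4 hK
  have hinj : Function.Injective fun z : K => z * frF4 hK z := by
    intro u v h
    simp only at h
    by_cases hv : v = 0
    · subst hv
      simpa [map_eq_zero] using h
    obtain ⟨w, hw⟩ : ∃ w, w = u / v := ⟨_, rfl⟩
    have hu : u = w * v := by rw [hw, div_mul_cancel₀ _ hv]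
    have h1 : w * frF4 hK w = 1 := by
      rw [hu, map_mul] at h
      have hne : v * frF4 hK v ≠ 0 := mul_ne_zero hv ((map_ne_zero _).2 hv)
      refine mul_right_cancel₀ hne ?_
      linear_combination h
    have hw0 : w ≠ 0 := by rintro rfl; simp at h1
    have h2 : frF4 hK w = w⁻¹ := eq_inv_of_mul_eq_one_right h1
    have h3 := frF4_fix hK w
    rw [h2, map_inv₀, h2, inv_inv] at h3
    have : w = 1 := mul_left_cancel₀ hw0 (by rw [mul_one, ← sq, h3])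
    rw [hu, this, one_mul]
  exact fun x => (Finite.injective_iff_surjective.1 hinj) x

theorem norm_surj2 : ∀ x : K, ∃ z, z * frF4 hK z ^ (2 : ℕ) = x := by
  haveI := charF4 hK
  have hinj : Function.Injective fun z : K => z * frF4 hK z ^ (2 : ℕ) := by
    intro u v h
    simp only at h
    by_cases hv : v = 0
    · subst hv
      simpa [map_eq_zero] using h
    obtain ⟨w, hw⟩ : ∃ w, w = u / v := ⟨_, rfl⟩
    have hu : u = w * v := by rw [hw, div_mul_cancel₀ _ hv]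
    have h1 : w * frF4 hK w ^ (2 : ℕ) = 1 := by
      rw [hu, map_mul] at h
      have hne : v * frF4 hK v ^ (2 : ℕ) ≠ 0 := mul_ne_zero hv (pow_ne_zero _ ((map_ne_zero _).2 hv))
      refine mul_right_cancel₀ hne ?_
      linear_combination h
    have hw0 : w ≠ 0 := by rintro rfl; simp at h1
    have h2 : frF4 hK w ^ (2 : ℕ) = w⁻¹ := eq_inv_of_mul_eq_one_right h1
    have h4 : frF4 hK w = w⁻¹ := by
      have h := congrArg (frF4 hK) h2
      rw [map_pow, frF4_fix, map_inv₀] at h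
      rw [← inv_inv (frF4 hK w), ← h]
    rw [h4] at h2
    have h5 : w⁻¹ = 1 := mul_left_cancel₀ (inv_ne_zero hw0) (by rw [mul_one, ← sq]; exact h2)
    have : w = 1 := inv_eq_one.1 h5
    rw [hu, this, one_mul]
  exact fun x => (Finite.injective_iff_surjective.1 hinj) x

theorem card_UP1 : Nat.card ↥(P1 (K := K) m ⊓ (chevRel certF4 K).UP) = (2 ^ (2 * m + 1)) ^ 12 := by
  obtain ⟨e, he, hU⟩ := (twF4 hK).card_U1 two_pos (classCardF4 hK)
  have h24 : half chevF4 = 2 * 12 := by decide +kernel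
  rw [h24] at he
  rw [twF4_P1] at hU
  rw [hU, show e = 12 by omega]

theorem hasForm : HasForm (frF4 hK) (P1 m) := by
  haveI := charF4 hK
  haveI := (chevRel certF4 K).Finite_of_field
  intro x hx hxU
  obtain ⟨Φ, hΦ⟩ : ∃ Φ : K × K × K × K × K × K × K × K × K × K × K × K →
      ↥(P1 (K := K) m ⊓ (chevRel certF4 K).UP), ∀ a x1 y x2 z2 t3 x4 z4 t5 x6 z6 t7,
        (Φ (a, x1, y, x2, z2, t3, x4, z4, t5, x6, z6, t7) : ↥(chevF4.group K)) =
          form (frF4 hK) a x1 y x2 z2 t3 x4 z4 t5 x6 z6 t7 :=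
    ⟨fun p => ⟨form (frF4 hK) p.1 p.2.1 p.2.2.1 p.2.2.2.1 p.2.2.2.2.1 p.2.2.2.2.2.1 p.2.2.2.2.2.2.1
        p.2.2.2.2.2.2.2.1 p.2.2.2.2.2.2.2.2.1 p.2.2.2.2.2.2.2.2.2.1 p.2.2.2.2.2.2.2.2.2.2.1 p.2.2.2.2.2.2.2.2.2.2.2,
        (memF4 hK).form_mem _ _ _ _ _ _ _ _ _ _ _ _, form_mem_UP _ _ _ _ _ _ _ _ _ _ _ _ _⟩,
      fun _ _ _ _ _ _ _ _ _ _ _ _ => rfl⟩
  have hb : Function.Bijective Φ := by
    refine (Nat.bijective_iff_injective_and_card Φ).2 ⟨?_, ?_⟩
    · rintro ⟨a, x1, y, x2, z2, t3, x4, z4, t5, x6, z6, t7⟩ ⟨a', x1', y', x2', z2', t3', x4', z4', t5', x6', z6', t7'⟩ h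
      have h' := congrArg Subtype.val h
      rw [hΦ, hΦ] at h'
      obtain ⟨rfl, rfl, rfl, rfl, rfl, rfl, rfl, rfl, rfl, rfl, rfl, rfl⟩ := form_injective (frF4 hK) h'
      rfl
    · simp only [Nat.card_prod, Nat.card_eq_fintype_card (α := K), hK, card_UP1 hK]
      ring
  obtain ⟨⟨a, x1, y, x2, z2, t3, x4, z4, t5, x6, z6, t7⟩, hp⟩ := hb.2 ⟨x, hx, hxU⟩
  exact ⟨a, x1, y, x2, z2, t3, x4, z4, t5, x6, z6, t7, by rw [← hΦ, hp]⟩

theorem dataF4 : Data (frF4 hK) (P1 m) where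
  mem := memF4 hK
  hf := hasForm hK
  tors c _ := tors_mem hK c
  fix := frF4_fix hK
  sqr x := by
    haveI := charF4 hK
    obtain ⟨y, hy⟩ := FiniteField.isSquare_of_char_two (ringChar.eq K 2) x
    exact ⟨y, (sq y).trans hy.symm⟩
  n1 := norm_surj1 hK
  n2 := norm_surj2 hK

/-- every involution of the fixed group is conjugate to one of the two representatives -/
theorem exists_rep {x : ↥(chevF4.group K)} (hx : x ∈ P1 m) (h2 : x * x = 1) :
    Good (frF4 hK) (P1 m) x := by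
  haveI := charF4 hK
  haveI := (chevRel certF4 K).Finite_of_field
  haveI : Fact (Nat.Prime 2) := ⟨Nat.prime_two⟩
  obtain ⟨U, hU⟩ : ∃ U : Subgroup ↥(P1 (K := K) m),
      U = (P1 (K := K) m ⊓ (chevRel certF4 K).UP).subgroupOf (P1 m) := ⟨_, rfl⟩
  have hUc : Nat.card ↥U = 2 ^ ((2 * m + 1) * 12) := by
    rw [hU, Nat.card_congr (Subgroup.subgroupOfEquivOfLe inf_le_left).toEquiv, card_UP1 hK, ← pow_mul]
  have hidx : ¬ 2 ∣ U.index := by
    have h1 : Nat.card ↥U * U.index = Nat.card ↥(twistedF4 K (2 ^ m)) := by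
      rw [U.card_mul_index]
      exact Nat.card_congr (Subgroup.subgroupOfEquivOfLe twF4_le).toEquiv
    rw [card_twF4 hK, hUc, ← pow_mul, mul_assoc, mul_assoc, mul_assoc] at h1
    rw [Nat.eq_of_mul_eq_mul_left (Nat.two_pow_pos _) h1]
    obtain ⟨q, hq⟩ : ∃ q, q = 2 ^ (2 * m + 1) := ⟨_, rfl⟩
    have hev : 2 ∣ q := hq ▸ dvd_pow_self 2 (by omega)
    rw [← hq]
    have hodd : ∀ k, k ≠ 0 → ¬ 2 ∣ q ^ k + 1 ∧ ¬ 2 ∣ q ^ k - 1 := fun k hk => by
      have h := dvd_pow hev hk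
      have h' : 1 ≤ q ^ k := Nat.one_le_pow _ _ (hq ▸ Nat.two_pow_pos _)
      constructor <;> omega
    intro hd
    rcases (Nat.prime_two.dvd_mul).1 hd with h | h
    · exact (hodd 1 one_ne_zero).2 (by rwa [pow_one])
    rcases (Nat.prime_two.dvd_mul).1 h with h | h
    · exact (hodd 3 (by omega)).1 h
    rcases (Nat.prime_two.dvd_mul).1 h with h | h
    · exact (hodd 4 (by omega)).2 h
    · exact (hodd 6 (by omega)).1 h
  obtain ⟨S, hS⟩ : ∃ S : Sylow 2 ↥(P1 (K := K) m), (S : Subgroup ↥(P1 (K := K) m)) = U :=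
    ⟨(IsPGroup.of_card hUc).toSylow hidx, IsPGroup.toSylow_coe _ _⟩
  obtain ⟨x', hx'⟩ : ∃ x' : ↥(P1 (K := K) m), (x' : ↥(chevF4.group K)) = x := ⟨⟨x, hx⟩, rfl⟩
  have hp : IsPGroup 2 ↥(Subgroup.zpowers x') := by
    have h : x' ^ 2 = 1 := by
      rw [pow_two]; exact Subtype.ext (by rw [Subgroup.coe_mul, hx']; exact h2)
    rintro ⟨y, hy⟩
    obtain ⟨k, rfl⟩ := Subgroup.mem_zpowers_iff.1 hy
    refine ⟨1, Subtype.ext ?_⟩
    show (x' ^ k) ^ (2 ^ 1) = 1
    rw [pow_one, ← zpow_natCast, ← zpow_mul, mul_comm, zpow_mul, zpow_natCast, h, one_zpow]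
  obtain ⟨Q, hQ⟩ := hp.exists_le_sylow
  obtain ⟨g, hg⟩ := MulAction.exists_smul_eq ↥(P1 (K := K) m) Q S
  have hgx : g * x' * g⁻¹ ∈ U := by
    have h : MulAut.conj g • x' ∈ MulAut.conj g • (Q : Subgroup ↥(P1 (K := K) m)) :=
      Subgroup.smul_mem_pointwise_smul _ _ _ (hQ (Subgroup.mem_zpowers x'))
    rw [← Sylow.coe_subgroup_smul, hg, hS] at h
    exact h
  rw [hU, Subgroup.mem_subgroupOf] at hgx
  simp only [Subgroup.coe_mul, Subgroup.coe_inv, hx'] at hgx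
  have hc : Cj (P1 m) x ((g : ↥(chevF4.group K)) * x * (g : ↥(chevF4.group K))⁻¹) := ⟨g, g.2, rfl⟩
  obtain ⟨a, x1, y, x2, z2, t3, x4, z4, t5, x6, z6, t7, hp'⟩ :=
    hasForm hK _ (Subgroup.mem_inf.1 hgx).1 (Subgroup.mem_inf.1 hgx).2
  refine hc.good ?_
  have hsq := hc.sq h2
  rw [← hp'] at hsq ⊢
  exact good_form (dataF4 hK) hsq

/-- two representatives of the classes of involutions -/
theorem reps : ∃ y1 y2 : ↥(twistedF4 K (2 ^ m)), orderOf y1 = 2 ∧ orderOf y2 = 2 ∧ ¬ IsConj y2 y1 ∧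
    ((y1 : GL chevF4.Idx K) : Matrix chevF4.Idx chevF4.Idx K) = chevF4.x K 33 1 * chevF4.x K 24 1 ∧
    ((y2 : GL chevF4.Idx K) : Matrix chevF4.Idx chevF4.Idx K) = chevF4.x K 28 1 * chevF4.x K 30 1 ∧
    ∀ g : ↥(twistedF4 K (2 ^ m)), orderOf g = 2 → IsConj g y1 ∨ IsConj g y2 := by
  haveI := charF4 hK
  obtain ⟨Θ, hΘ⟩ : ∃ Θ : ↥(P1 (K := K) m) ≃* ↥(twistedF4 K (2 ^ m)),
      ∀ g, ((Θ g : ↥(twistedF4 K (2 ^ m))) : GL chevF4.Idx K) = ((g : ↥(chevF4.group K)) : GL chevF4.Idx K) :=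
    ⟨Subgroup.subgroupOfEquivOfLe twF4_le, fun _ => rfl⟩
  obtain ⟨y1, hy1⟩ : ∃ y : ↥(P1 (K := K) m), (y : ↥(chevF4.group K)) = C0 (frF4 hK) 1 :=
    ⟨⟨_, (memF4 hK).m0 1⟩, rfl⟩
  obtain ⟨y2, hy2⟩ : ∃ y : ↥(P1 (K := K) m), (y : ↥(chevF4.group K)) = C1 (frF4 hK) 0 1 :=
    ⟨⟨_, (memF4 hK).m1 0 1⟩, rfl⟩
  have v1 : ((Θ y1 : GL chevF4.Idx K) : Matrix chevF4.Idx chevF4.Idx K) = chevF4.x K 33 1 * chevF4.x K 24 1 := by
    rw [hΘ, hy1]
    simp only [C0, cA, map_one, X, Subgroup.coe_mul, Units.val_mul, xG_val]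
  have z0 : ∀ r, X r (0 : K) = 1 := (chevRel certF4 K).xe_zero
  have v2 : ((Θ y2 : GL chevF4.Idx K) : Matrix chevF4.Idx chevF4.Idx K) = chevF4.x K 28 1 * chevF4.x K 30 1 := by
    rw [hΘ, hy2]
    simp only [C1, cB, map_zero, map_one, zero_mul, zero_add, z0, one_mul, one_pow, X, Subgroup.coe_mul,
      Units.val_mul, xG_val]
  have hnc : ¬ IsConj (Θ y2) (Θ y1) := by
    intro h
    obtain ⟨c, hc⟩ := isConj_iff.1 h
    have h' := congrArg (fun g : ↥(twistedF4 K (2 ^ m)) =>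
      ((g : GL chevF4.Idx K) : Matrix chevF4.Idx chevF4.Idx K)) hc
    simp only [Subgroup.coe_mul, Subgroup.coe_inv, Units.val_mul] at h'
    rw [v1, v2] at h'
    exact not_conj K (c : GL chevF4.Idx K) h'
  have n1 : y1 ≠ 1 := fun e => by
    have := form_injective (frF4 hK) (a := 1) (x1 := 0) (y := 0) (x2 := 0) (z2 := 0) (t3 := 0) (x4 := 0) (z4 := 0)
      (t5 := 0) (x6 := 0) (z6 := 0) (t7 := 0) (a' := 0) (x1' := 0) (y' := 0) (x2' := 0) (z2' := 0) (t3' := 0)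
      (x4' := 0) (z4' := 0) (t5' := 0) (x6' := 0) (z6' := 0) (t7' := 0)
      (by
        have h1 := congrArg Subtype.val e
        rw [hy1] at h1
        simp only [form, C0, C1, C2, C3, C4, C5, C6, C7, cA_zero, cB_zero, mul_one] at h1 ⊢
        exact h1)
    exact one_ne_zero this.1
  have n2 : y2 ≠ 1 := fun e => by
    have := form_injective (frF4 hK) (a := 0) (x1 := 0) (y := 1) (x2 := 0) (z2 := 0) (t3 := 0) (x4 := 0) (z4 := 0)
      (t5 := 0) (x6 := 0) (z6 := 0) (t7 := 0) (a' := 0) (x1' := 0) (y' := 0) (x2' := 0) (z2' := 0) (t3' := 0)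
      (x4' := 0) (z4' := 0) (t5' := 0) (x6' := 0) (z6' := 0) (t7' := 0)
      (by
        have h1 := congrArg Subtype.val e
        rw [hy2] at h1
        simp only [form, C0, C1, C2, C3, C4, C5, C6, C7, cA_zero, cB_zero, mul_one, one_mul] at h1 ⊢
        exact h1)
    exact one_ne_zero this.2.2.1
  have s1 : y1 * y1 = 1 := Subtype.ext (by
    rw [Subgroup.coe_mul, hy1, C0, cA]
    rw [((xG_commute certF4 commF4.1.1 _ _)).symm.mul_mul_mul_comm, xG_pow_mul, xG_pow_mul, CharTwo.add_self_eq_zero,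
      CharTwo.add_self_eq_zero]
    exact (congrArg₂ (· * ·) (z0 33) (z0 24)).trans (one_mul _))
  have s2 : y2 * y2 = 1 := Subtype.ext (by
    rw [Subgroup.coe_mul, hy2, C1, cB]
    simp only [map_zero, map_one, zero_mul, zero_add, z0, one_mul, one_pow]
    rw [((xG_commute certF4 commF4.2.1.2.2.2 _ _)).symm.mul_mul_mul_comm, xG_pow_mul, xG_pow_mul,
      CharTwo.add_self_eq_zero]
    exact (congrArg₂ (· * ·) (z0 28) (z0 30)).trans (one_mul _))
  have hord : ∀ y : ↥(P1 (K := K) m), y ≠ 1 → y * y = 1 → orderOf (Θ y) = 2 := fun y h1 h2 => by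
    rw [MulEquiv.orderOf_eq]
    exact orderOf_eq_prime (by rw [sq, h2]) h1
  refine ⟨Θ y1, Θ y2, hord y1 n1 s1, hord y2 n2 s2, hnc, v1, v2, fun g hg => ?_⟩
  obtain ⟨x, rfl⟩ := Θ.surjective g
  rw [MulEquiv.orderOf_eq] at hg
  obtain ⟨hpow, hne1⟩ := orderOf_eq_prime_iff.1 hg
  have conv : ∀ y : ↥(P1 (K := K) m), Cj (P1 m) (x : ↥(chevF4.group K)) y → IsConj (Θ x) (Θ y) := by
    rintro y ⟨c, hc, he⟩
    refine isConj_iff.2 ⟨Θ ⟨c, hc⟩, ?_⟩
    rw [← map_inv, ← map_mul, ← map_mul]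
    exact congrArg Θ (Subtype.ext he)
  rcases exists_rep hK x.2 (by rw [← Subgroup.coe_mul, ← sq, hpow]; rfl) with h | h | h
  · exact absurd (Subtype.ext h) hne1
  · exact Or.inl (conv y1 (hy1 ▸ h))
  · exact Or.inr (conv y2 (hy2 ▸ h))

/-- `²F₄(q)` has two classes of involutions -/
theorem class_count : (ConjClasses.mk '' {g : ↥(twistedF4 K (2 ^ m)) | orderOf g = 2}).ncard = 2 := by
  obtain ⟨y1, y2, h1, h2, hne, -, -, hall⟩ := reps hK
  have key : ConjClasses.mk '' {g : ↥(twistedF4 K (2 ^ m)) | orderOf g = 2} =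
      {ConjClasses.mk y1, ConjClasses.mk y2} := by
    ext C
    simp only [Set.mem_image, Set.mem_insert_iff, Set.mem_singleton_iff]
    constructor
    · rintro ⟨g, hg, rfl⟩
      exact (hall g hg).imp ConjClasses.mk_eq_mk_iff_isConj.2 ConjClasses.mk_eq_mk_iff_isConj.2
    · rintro (rfl | rfl)
      exacts [⟨y1, h1, rfl⟩, ⟨y2, h2, rfl⟩]
  rw [key, Set.ncard_pair]
  exact fun h => hne (ConjClasses.mk_eq_mk_iff_isConj.1 h).symm

omit hK

/-! ### the Tits group -/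

theorem commC : MonCollect.chkSame chevF4 (w0 (some 0) ++ w2 (some 0) none) (w2 (some 0) none ++ w0 (some 0)) = true ∧
    MonCollect.chkSame chevF4 (w1 none (some 0) ++ w1 (some 0) none) (w1 (some 0) none ++ w1 none (some 0)) = true := by
  decide +kernel

theorem letters_TF : CfsgLib.Lie.Tits.letW.getD 1 [] = [27, 25, 28] ∧ CfsgLib.Lie.Tits.letW.getD 4 [] = [34, 26, 36] ∧
    CfsgLib.Lie.Tits.par [1] = true ∧ CfsgLib.Lie.Tits.par [4] = true := by decide +kernel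

open CfsgLib.Lie.Tits in
/-- an odd letter gives an element outside the derived subgroup -/
theorem not_mem_commutator {l : ℕ} (hl : par [l] = true) :
    ∃ c : ↥(twistedF4 (ZMod 2) 1), c ∉ commutator ↥(twistedF4 (ZMod 2) 1) ∧
      ((c : GL chevF4.Idx (ZMod 2)) = ((wg (letW.getD l []) : G0) : GL chevF4.Idx (ZMod 2))) := by
  haveI := finite_Gp
  refine ⟨toTw (split0.mG.ev [l]), ?_, ?_⟩
  · intro h
    have hg := Abelianization.commutator_subset_ker (split0.χ.comp toTw.symm.toMonoidHom) h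
    rw [MonoidHom.mem_ker, MonoidHom.comp_apply, MulEquiv.coe_toMonoidHom, MulEquiv.symm_apply_apply,
      split0.χ_ev] at hg
    have h2 : (split0.ev [l]).2 = Multiplicative.ofAdd (CfsgLib.Lie.TitsEval.b2z (par [l])) := by
      show (model0.ev [l]).2 = _
      rw [ev0]
    rw [h2, hl] at hg
    exact absurd hg (by decide)
  · show (((split0.mG.ev [l] : split0.Gp) : G0 × Multiplicative (ZMod 2)).1 : GL chevF4.Idx (ZMod 2)) = _
    rw [split0.mG_val]
    show ((model0.ev [l]).1 : GL chevF4.Idx (ZMod 2)) = _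
    rw [ev0, show flat [l] = letW.getD l [] ++ [] from rfl, List.append_nil]

/-- the Tits group has two classes of involutions -/
theorem tits_class_count : (ConjClasses.mk '' {g : TitsGroup | orderOf g = 2}).ncard = 2 := by
  have hK : Fintype.card (ZMod 2) = 2 ^ (2 * 0 + 1) := rfl
  haveI : Fact (Nat.Prime 2) := ⟨Nat.prime_two⟩
  haveI := charF4 hK
  obtain ⟨y1, y2, h1, h2, hne, v1, v2, hall⟩ := reps hK
  obtain ⟨T, hT⟩ : ∃ T, T = commutator ↥(twistedF4 (ZMod 2) 1) := ⟨_, rfl⟩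
  have hidx : T.index = 2 := hT ▸ CfsgLib.Lie.Tits.tits_main.1
  have m1 : y1 ∈ T := hT ▸ CfsgLib.Lie.Tits.tits_involution y1 h1
  have m2 : y2 ∈ T := hT ▸ CfsgLib.Lie.Tits.tits_involution y2 h2
  obtain ⟨e1, e4, p1, p4⟩ := letters_TF
  obtain ⟨φ, hφ⟩ : ∃ φ, φ = frF4 hK := ⟨_, rfl⟩
  have z0 : ∀ r, X r (0 : ZMod 2) = 1 := (chevRel certF4 (ZMod 2)).xe_zero
  -- an element outside centralising each representative
  have cen : ∀ (y c : ↥(twistedF4 (ZMod 2) 1)) (g h : ↥(chevF4.group (ZMod 2))),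
      (y : GL chevF4.Idx (ZMod 2)) = (g : GL chevF4.Idx (ZMod 2)) →
      (c : GL chevF4.Idx (ZMod 2)) = (h : GL chevF4.Idx (ZMod 2)) → g * h = h * g → c * y * c⁻¹ = y := by
    intro y c g h ey ec e
    rw [mul_inv_eq_iff_eq_mul]
    apply Subtype.ext
    rw [Subgroup.coe_mul, Subgroup.coe_mul, ey, ec]
    rw [← Subgroup.coe_mul, ← Subgroup.coe_mul, e]
  obtain ⟨c4, o4, hc4⟩ := not_mem_commutator p4
  obtain ⟨c1, o1, hc1⟩ := not_mem_commutator p1
  have w4e : (CfsgLib.Lie.Tits.wg (CfsgLib.Lie.Tits.letW.getD 4 []) : ↥(chevF4.group (ZMod 2))) = C2 φ 1 0 := by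
    rw [e4]
    simp [CfsgLib.Lie.Tits.wg, CfsgLib.Lie.TitsEval.ones, wordG, C2, cB, z0, map_one, map_zero]
  have w1e : (CfsgLib.Lie.Tits.wg (CfsgLib.Lie.Tits.letW.getD 1 []) : ↥(chevF4.group (ZMod 2))) = C1 φ 1 0 := by
    rw [e1]
    simp [CfsgLib.Lie.Tits.wg, CfsgLib.Lie.TitsEval.ones, wordG, C1, cB, z0, map_one, map_zero]
  have ey1 : (y1 : GL chevF4.Idx (ZMod 2)) = ((C0 φ 1 : ↥(chevF4.group (ZMod 2))) : GL chevF4.Idx (ZMod 2)) := by
    refine Units.ext ?_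
    rw [v1]
    simp only [C0, cA, map_one, X, Subgroup.coe_mul, Units.val_mul, xG_val]
  have ey2 : (y2 : GL chevF4.Idx (ZMod 2)) = ((C1 φ 0 1 : ↥(chevF4.group (ZMod 2))) : GL chevF4.Idx (ZMod 2)) := by
    refine Units.ext ?_
    rw [v2]
    simp only [C1, cB, map_zero, map_one, zero_mul, zero_add, z0, one_mul, one_pow, X, Subgroup.coe_mul,
      Units.val_mul, xG_val]
  obtain ⟨q1, q2⟩ := commC
  have hp : ∀ o o', inR [(1 : ZMod 2)] o → inR [(1 : ZMod 2)] o' → True := fun _ _ _ _ => trivial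
  have g1 := MonCollect.word_eq_of_chk (chevRel certF4 (ZMod 2)) (atoms φ [(1 : ZMod 2)]) q1
  rw [MonCollect.word_append, MonCollect.word_append, word_wA φ _ _ _ _ (by simp [inR]),
    word_wB φ _ _ _ _ _ _ _ (by simp [inR]) (by simp [inR])] at g1
  have g2 := MonCollect.word_eq_of_chk (chevRel certF4 (ZMod 2)) (atoms φ [(1 : ZMod 2)]) q2
  rw [MonCollect.word_append, MonCollect.word_append, word_wB φ _ _ _ _ _ _ _ (by simp [inR]) (by simp [inR]),
    word_wB φ _ _ _ _ _ _ _ (by simp [inR]) (by simp [inR])] at g2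
  simp only [po, List.getD_cons_zero] at g1 g2
  have k1 : c4 * y1 * c4⁻¹ = y1 := cen y1 c4 _ _ ey1 (hc4.trans (by rw [w4e])) g1
  have k2 : c1 * y2 * c1⁻¹ = y2 := cen y2 c1 _ _ ey2 (hc1.trans (by rw [w1e])) g2
  -- no splitting
  have split : ∀ (g : ↥(twistedF4 (ZMod 2) 1)) (y c : ↥(twistedF4 (ZMod 2) 1)), c ∉ T → c * y * c⁻¹ = y →
      ∀ (hg : g ∈ T) (hy : y ∈ T), IsConj g y → IsConj (⟨g, hg⟩ : ↥T) ⟨y, hy⟩ := by
    intro g y c hc hcy hg hy h
    obtain ⟨d, hd⟩ := isConj_iff.1 h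
    by_cases hdT : d ∈ T
    · exact isConj_iff.2 ⟨⟨d, hdT⟩, Subtype.ext hd⟩
    · refine isConj_iff.2 ⟨⟨c * d, ?_⟩, Subtype.ext ?_⟩
      · rw [Subgroup.mul_mem_iff_of_index_two hidx]
        exact ⟨fun h => absurd h hc, fun h => absurd h hdT⟩
      · show c * d * g * (c * d)⁻¹ = y
        calc c * d * g * (c * d)⁻¹ = c * (d * g * d⁻¹) * c⁻¹ := by group
          _ = y := by rw [hd, hcy]
  subst hT
  obtain ⟨Y1, hY1⟩ : ∃ Y : TitsGroup, Y = ⟨y1, m1⟩ := ⟨_, rfl⟩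
  obtain ⟨Y2, hY2⟩ : ∃ Y : TitsGroup, Y = ⟨y2, m2⟩ := ⟨_, rfl⟩
  have key : ConjClasses.mk '' {g : TitsGroup | orderOf g = 2} = {ConjClasses.mk Y1, ConjClasses.mk Y2} := by
    ext C
    simp only [Set.mem_image, Set.mem_insert_iff, Set.mem_singleton_iff]
    constructor
    · rintro ⟨⟨g, hgT⟩, hg, rfl⟩
      have hg' : orderOf g = 2 := (Subgroup.orderOf_coe (⟨g, hgT⟩ : TitsGroup)).trans hg
      refine (hall g hg').imp (fun h => ?_) (fun h => ?_)
      · exact hY1 ▸ ConjClasses.mk_eq_mk_iff_isConj.2 (split g y1 c4 o4 k1 hgT m1 h)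
      · exact hY2 ▸ ConjClasses.mk_eq_mk_iff_isConj.2 (split g y2 c1 o1 k2 hgT m2 h)
    · rintro (rfl | rfl)
      · exact ⟨Y1, by rw [Set.mem_setOf_eq, hY1, Subgroup.orderOf_mk]; exact h1, rfl⟩
      · exact ⟨Y2, by rw [Set.mem_setOf_eq, hY2, Subgroup.orderOf_mk]; exact h2, rfl⟩
  rw [key, Set.ncard_pair]
  intro h
  have h' := (commutator ↥(twistedF4 (ZMod 2) 1)).subtype.map_isConj (ConjClasses.mk_eq_mk_iff_isConj.1 h)
  rw [hY1, hY2] at h'
  exact hne h'.symm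

end CfsgLib.Lie.Chev.TwGroups.F4Inv
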