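/-
Centralisers of involutions of `²F₄(q)` lie in the parabolic subgroups of the orbits of simple roots.
-/
import Cfsg.Agent.Lib.Lie.Twisted.F4Inv.Main
import Cfsg.Agent.Lib.Lie.Twisted.OrbParabolic
import Cfsg.Agent.Lib.Lie.Twisted.F4Torus
import Cfsg.Agent.Lib.Lie.Rel.BorelTits

set_option autoImplicit false

namespace CfsgLib.Lie.Chev.TwGroups.F4Inv

open Cfsg.Lie

/-- the elements of the twisted Weyl group as words -/
def wordsW : List (List ℕ) :=
  let a := [0, 3]; let b := [1, 2, 1, 2]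
  [[], a, b, a ++ b, b ++ a, a ++ b ++ a, b ++ a ++ b, a ++ b ++ a ++ b, b ++ a ++ b ++ a,
    a ++ b ++ a ++ b ++ a, b ++ a ++ b ++ a ++ b, a ++ b ++ a ++ b ++ a ++ b, b ++ a ++ b ++ a ++ b ++ a,
    a ++ b ++ a ++ b ++ a ++ b ++ a, b ++ a ++ b ++ a ++ b ++ a ++ b, a ++ b ++ a ++ b ++ a ++ b ++ a ++ b]

/-- the list is closed under the generators -/
def chkW : Bool :=
  wordsTF4.all fun w => wordsW.all fun L => wordsW.any fun L' =>
    (List.range chevF4.nroots).all fun r => Nat.beq (wordAct auxF4 w (wordAct auxF4 L r)) (wordAct auxF4 L' r)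

/-- a set of positive roots closed under commutator terms -/
def chkClosed (p : ℕ → Bool) : Bool :=
  (List.range chevF4.nroots).all fun r => !p r || (decide (half chevF4 ≤ r) &&
    (List.range chevF4.nroots).all fun s => !p s || (chevF4.commTerms r s).all fun c => p c.1)

/-- commutators of `U` with the roots of `S` avoid `r0` and stay inside `S` -/
def chkComm (S : List ℕ) (r0 : ℕ) : Bool :=
  S.all fun r => decide (half chevF4 ≤ r ∧ r < chevF4.nroots) &&
    (List.range' (half chevF4) (half chevF4)).all fun s => (chevF4.commTerms r s).all fun c =>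
      S.contains c.1 && !Nat.beq c.1 r0

/-- only two elements of the twisted Weyl group keep `r0` inside `S` -/
def chkMove (S : List ℕ) (r0 : ℕ) (w : List ℕ) : Bool :=
  wordsW.all fun L => decide (L = [] ∨ L = w) ||
    (!S.contains (wordAct auxF4 L r0) &&
      chkClosed fun r => decide (half chevF4 ≤ r) && S.contains (wordAct auxF4 L r))

/-- all conditions on one representative -/
def chkCent (S : List ℕ) (r0 : ℕ) (w : List ℕ) : Bool :=
  chkComm S r0 && chkMove S r0 w && S.contains r0 && chkClosed (fun r => S.contains r && !Nat.beq r r0)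
    && chkClosed (fun r => S.contains r)

theorem W_ok : chkW = true := by decide +kernel

theorem cent39 : chkCent [39, 40, 43, 44, 45, 46, 47] 39 (wordsTF4.getD 0 []) = true := by decide +kernel

theorem cent44 : chkCent [44, 45, 46, 47] 44 (wordsTF4.getD 1 []) = true := by decide +kernel

theorem posClosed_of_chk {p : ℕ → Bool} (h : chkClosed p = true) :
    PosClosed chevF4 {r : Fin chevF4.nroots | p r = true} := by
  simp only [chkClosed, List.all_eq_true, List.mem_range, Bool.or_eq_true, Bool.and_eq_true, decide_eq_true_iff,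
    Bool.not_eq_true'] at h
  refine ⟨fun r hr => ?_, fun r hr s hs c hc _ => ?_⟩
  · exact ((h r r.2).resolve_left (by rw [Set.mem_setOf_eq] at hr; simp [hr])).1
  · rw [Set.mem_setOf_eq] at hr hs
    exact (((h r r.2).resolve_left (by simp [hr])).2 s s.2).resolve_left (by simp [hs]) c hc

variable {K : Type*} [Field K] [Fintype K] {m : ℕ} (hK : Fintype.card K = 2 ^ (2 * m + 1))
include hK

theorem exists_word_of_mem {n : (chevRel certF4 K).NS} (hn : (n : ↥(chevF4.group K)) ∈ (twF4 hK).P1) :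
    ∃ L ∈ wordsW, ∀ r : Fin chevF4.nroots, ((chevRel certF4 K).nsPerm n r : ℕ) = wordAct auxF4 L r := by
  have hW := W_ok
  simp only [chkW, List.all_eq_true, List.any_eq_true, List.mem_range, nat_beq_iff] at hW
  obtain ⟨σ, hσ⟩ : ∃ σ, σ = (chevRel certF4 K).nsPerm n := ⟨_, rfl⟩
  have h : σ ∈ (twF4 hK).permW := hσ ▸ (twF4 hK).mem_permW.2 ⟨n, hn, rfl⟩
  rw [(twF4 hK).permW_eq_closure] at h
  rw [← hσ]
  clear hσ
  have step : ∀ (k : Fin (twF4 hK).κ) (τ : Equiv.Perm (Fin chevF4.nroots)),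
      (∃ L ∈ wordsW, ∀ r : Fin chevF4.nroots, (τ r : ℕ) = wordAct auxF4 L r) →
      ∃ L ∈ wordsW, ∀ r : Fin chevF4.nroots,
        (((chevRel certF4 K).nsPerm ((twF4 hK).nJ k) * τ) r : ℕ) = wordAct auxF4 L r := by
    rintro k τ ⟨L, hL, hτ⟩
    have hk : (k : ℕ) < wordsTF4.length := k.2
    obtain ⟨L', hL', e⟩ := hW (wordsTF4.getD k []) (by rw [List.getD_eq_getElem _ _ hk]; exact List.getElem_mem _)
      L hL
    refine ⟨L', hL', fun r => ?_⟩
    rw [Equiv.Perm.mul_apply, (twF4 hK).nJ_apply (orbListF4 hK) rfl wordsTF4_ok k, hτ]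
    exact e r r.2
  induction h using Subgroup.closure_induction_left with
  | one => exact ⟨[], by simp [wordsW], fun r => rfl⟩
  | mul_left x hx y _ ih =>
    obtain ⟨k, rfl⟩ := hx
    exact step k y ih
  | inv_mul_cancel x hx y _ ih =>
    obtain ⟨k, rfl⟩ := hx
    have e : ((chevRel certF4 K).nsPerm ((twF4 hK).nJ k))⁻¹ = (chevRel certF4 K).nsPerm ((twF4 hK).nJ k) := by
      rw [inv_eq_iff_mul_eq_one, ← map_mul, (chevRel certF4 K).nsPerm_of_mem_HS _ ((twF4 hK).nJ_sq k)]
    rw [e]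
    exact step k y ih

omit hK [Fintype K] in
/-- commutators of `U` with `y` avoid `r0` -/
theorem comm_mem {S : List ℕ} {r0 : ℕ} (h1 : chkComm S r0 = true) {y : ↥(chevF4.group K)}
    (hy : y ∈ (chevRel certF4 K).US {r : Fin chevF4.nroots | S.contains (r : ℕ) = true})
    {u : ↥(chevF4.group K)} (hu : u ∈ (chevRel certF4 K).UP) :
    u * y * u⁻¹ * y⁻¹ ∈ (chevRel certF4 K).US
      {r : Fin chevF4.nroots | (S.contains (r : ℕ) && !Nat.beq (r : ℕ) r0) = true} := by
  obtain ⟨R, hR⟩ : ∃ R, R = chevRel certF4 K := ⟨_, rfl⟩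
  rw [← hR] at hy hu ⊢
  obtain ⟨N, hN⟩ : ∃ N : Set (Fin chevF4.nroots),
      N = {r : Fin chevF4.nroots | (S.contains (r : ℕ) && !Nat.beq (r : ℕ) r0) = true} := ⟨_, rfl⟩
  rw [← hN]
  simp only [chkComm, List.all_eq_true, Bool.and_eq_true, decide_eq_true_iff, List.mem_range'_1] at h1
  have hn := certF4.nroots_eq
  have hterm : ∀ r : Fin chevF4.nroots, S.contains (r : ℕ) = true → half chevF4 ≤ (r : ℕ) ∧
      ∀ s : Fin chevF4.nroots, half chevF4 ≤ (s : ℕ) → ∀ c ∈ chevF4.commTerms r s, ∀ h : c.1 < chevF4.nroots,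
        (⟨c.1, h⟩ : Fin chevF4.nroots) ∈ N := by
    intro r hr
    obtain ⟨⟨hp, -⟩, hc⟩ := h1 r (List.contains_iff_mem.1 hr)
    refine ⟨hp, fun s hs c hmem h => ?_⟩
    have := hc s ⟨hs, by have := s.2; omega⟩ c hmem
    rw [hN, Set.mem_setOf_eq]
    simpa using this
  have hnorm : R.UP ≤ Subgroup.normalizer (R.US N : Set ↥(chevF4.group K)) := R.US_le fun s hs t => by
    refine R.xe_mem_normalizer (fun r hr t' v => ?_) t
    have hr' : (S.contains (r : ℕ) && !Nat.beq (r : ℕ) r0) = true := by rw [hN] at hr; exact hr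
    rw [Bool.and_eq_true] at hr'
    obtain ⟨hp, hc⟩ := hterm r hr'.1
    by_cases hrs : s = r
    · subst hrs
      rw [mul_assoc, R.xe_add', ← R.xe_neg, R.xe_add']
      exact R.xe_mem_US hr _
    · exact R.xe_conj_mem hrs (fun e => (R.negF_pos_iff r).1 (e ▸ hs) hp) hr (hc s hs) t' v
  have gen : ∀ r : Fin chevF4.nroots, S.contains (r : ℕ) = true → ∀ t, ∀ g ∈ R.UP,
      g * R.xe r t * g⁻¹ * (R.xe r t)⁻¹ ∈ R.US N := by
    intro r hr t g hg
    obtain ⟨hp, hc⟩ := hterm r hr
    refine closure_induction_symm R.gens_symm ?h1 ?hmul hg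
    case h1 => simp
    case hmul =>
      rintro _ ⟨s, hs, v, rfl⟩ g' ih
      have hx : R.xe (s : ℕ) v * R.xe r t * (R.xe (s : ℕ) v)⁻¹ * (R.xe r t)⁻¹ ∈ R.US N := by
        by_cases hrs : s = r
        · subst hrs
          rw [R.xe_add', ← R.xe_neg, R.xe_add', ← R.xe_neg, R.xe_add',
            show v + t + -v + -t = 0 by ring, R.xe_zero]
          exact one_mem _
        · have h := R.xe_comm r s t v r.2 s.2 (fun e => hrs (Fin.ext e)) (fun e =>
            (R.negF_pos_iff r).1 ((show s = R.negF r from Fin.ext e) ▸ hs) hp)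
          obtain ⟨W, hW⟩ : ∃ W, W = ((chevF4.commWord K r s t v).map fun p => R.xe p.1 p.2).prod := ⟨_, rfl⟩
          rw [← hW] at h
          have hWm : W ∈ R.US N := by
            rw [hW]
            refine list_prod_mem fun x hx => ?_
            simp only [ChevalleyDatum.commWord, List.map_map, List.mem_map, Function.comp_apply] at hx
            obtain ⟨c, hc', rfl⟩ := hx
            have hlt := (R.cert.commTerms_props r.2 s.2 c hc').1
            exact R.xe_mem_US (r := ⟨c.1, hlt⟩) (hc s hs c hc' hlt) _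
          have hn1 := hnorm (mul_mem (R.xe_mem_US (S := posSet chevF4) hp t) (R.xe_mem_US (S := posSet chevF4) hs v))
          rw [h]
          have := (Subgroup.mem_normalizer_iff.1 hn1 W).1 hWm
          simpa [mul_assoc] using this
      have := mul_mem ((Subgroup.mem_normalizer_iff.1 (hnorm (R.xe_mem_US (S := posSet chevF4) hs v)) _).1 ih) hx
      simpa [mul_assoc] using this
  induction hy using Subgroup.closure_induction generalizing u with
  | mem x hx =>
    obtain ⟨r, hr, t, rfl⟩ := hx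
    exact gen r hr t u hu
  | one => simp
  | mul x y hxm _ hx hy' =>
    have hxU : x ∈ R.UP := R.US_mono (fun r hr => (hterm r hr).1) hxm
    have := mul_mem (hx hu) ((Subgroup.mem_normalizer_iff.1 (hnorm hxU) _).1 (hy' hu))
    simpa [mul_assoc] using this
  | inv x hxm hx =>
    have hxU : x ∈ R.UP := R.US_mono (fun r hr => (hterm r hr).1) hxm
    have h2 := (Subgroup.mem_normalizer_iff.1 (hnorm (inv_mem hxU)) _).1 (inv_mem (hx hu))
    simpa [mul_assoc] using h2

/-- the centraliser of `y` lies in a parabolic subgroup -/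
theorem cent_le {S : List ℕ} {r0 : ℕ} {k : Fin (twF4 hK).κ}
    (h : chkCent S r0 (wordsTF4.getD (k : ℕ) []) = true) (hr0 : r0 < chevF4.nroots) {t : K} (ht : t ≠ 0)
    {c : ↥(chevF4.group K)}
    (hc : c ∈ (chevRel certF4 K).US {r : Fin chevF4.nroots | (S.contains (r : ℕ) && !Nat.beq (r : ℕ) r0) = true})
    {g : ↥(chevF4.group K)} (hg : g ∈ (twF4 hK).P1)
    (hcom : g * ((chevRel certF4 K).xe r0 t * c) = (chevRel certF4 K).xe r0 t * c * g) :
    g ∈ (chevRel certF4 K).PJ (orbSet (twF4 hK).orb k) := by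
  haveI := charF4 hK
  simp only [chkCent, Bool.and_eq_true] at h
  obtain ⟨⟨⟨⟨hcomm, hmove⟩, hr0S⟩, hNc⟩, hSc⟩ := h
  obtain ⟨R, hR⟩ : ∃ R, R = chevRel certF4 K := ⟨_, rfl⟩
  obtain ⟨y, hy⟩ : ∃ y, y = R.xe r0 t * c := ⟨_, rfl⟩
  obtain ⟨v, hv, n, u, hu, hgn, hv1, hn1, hu1⟩ := (twF4 hK).P1_bnu hg
  have hNS : ({r : Fin chevF4.nroots | (S.contains (r : ℕ) && !Nat.beq (r : ℕ) r0) = true}) ⊆
      {r : Fin chevF4.nroots | S.contains (r : ℕ) = true} := fun r hr => ((Bool.and_eq_true_iff).1 hr).1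
  have hSP := (posClosed_of_chk hSc).1
  have hyS : y ∈ (chevRel certF4 K).US {r : Fin chevF4.nroots | S.contains (r : ℕ) = true} := by
    rw [hy, hR]
    exact mul_mem ((chevRel certF4 K).xe_mem_US (r := ⟨r0, hr0⟩) hr0S t) ((chevRel certF4 K).US_mono hNS hc)
  have hu' : u ∈ (chevRel certF4 K).UP := (chevRel certF4 K).US_mono (Rel.invSet_subset _) hu
  have d1 := comm_mem hcomm hyS hu'
  have d2 := comm_mem hcomm hyS (inv_mem hv)
  rw [inv_inv] at d2
  have hz : u * y * u⁻¹ ∈ (chevRel certF4 K).US {r : Fin chevF4.nroots | S.contains (r : ℕ) = true} := by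
    have := mul_mem ((chevRel certF4 K).US_mono hNS d1) hyS
    rwa [inv_mul_cancel_right] at this
  have hz' : v⁻¹ * y * v ∈ (chevRel certF4 K).US {r : Fin chevF4.nroots | S.contains (r : ℕ) = true} := by
    have := mul_mem ((chevRel certF4 K).US_mono hNS d2) hyS
    rwa [inv_mul_cancel_right] at this
  rw [← hR, ← hy] at hcom
  rw [hgn] at hcom
  have hconj : (n : ↥(chevF4.group K)) * (u * y * u⁻¹) * (n : ↥(chevF4.group K))⁻¹ = v⁻¹ * y * v := by
    have e : v⁻¹ * (v * (n : ↥(chevF4.group K)) * u * y) * u⁻¹ * (n : ↥(chevF4.group K))⁻¹ =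
        v⁻¹ * (y * (v * (n : ↥(chevF4.group K)) * u)) * u⁻¹ * (n : ↥(chevF4.group K))⁻¹ := by rw [hcom]
    calc _ = v⁻¹ * (v * (n : ↥(chevF4.group K)) * u * y) * u⁻¹ * (n : ↥(chevF4.group K))⁻¹ := by group
      _ = _ := e
      _ = v⁻¹ * y * v := by group
  obtain ⟨L, hL, hact⟩ := exists_word_of_mem hK hn1
  simp only [chkMove, List.all_eq_true, Bool.or_eq_true, decide_eq_true_iff, Bool.and_eq_true,
    Bool.not_eq_true'] at hmove
  have hgoal : (chevRel certF4 K).nsPerm n = 1 ∨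
      (chevRel certF4 K).nsPerm n = (chevRel certF4 K).nsPerm ((twF4 hK).nJ k) := by
    rcases hmove L hL with hcase | ⟨hout, hB⟩
    · rcases hcase with rfl | rfl
      · exact Or.inl (Equiv.ext fun r => Fin.ext (hact r))
      · refine Or.inr (Equiv.ext fun r => Fin.ext ?_)
        rw [hact, (twF4 hK).nJ_apply (orbListF4 hK) rfl wordsTF4_ok k]
    exfalso
    -- `u y u⁻¹` is supported on the roots that stay inside `S`
    obtain ⟨p, hp, q, hq, e⟩ := (chevRel certF4 K).exists_UP_factor ((chevRel certF4 K).nsPerm n)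
      ((chevRel certF4 K).US_mono hSP hz)
    have hq1 : q = 1 := by
      have h1 := (chevRel certF4 K).conj_inv hq
      have h2 := (chevRel certF4 K).conj_keep hp
      have h3 : (n : ↥(chevF4.group K)) * q * (n : ↥(chevF4.group K))⁻¹ ∈ (chevRel certF4 K).BS := by
        rw [show (n : ↥(chevF4.group K)) * q * (n : ↥(chevF4.group K))⁻¹ =
            ((n : ↥(chevF4.group K)) * p * (n : ↥(chevF4.group K))⁻¹)⁻¹ *
              ((n : ↥(chevF4.group K)) * (u * y * u⁻¹) * (n : ↥(chevF4.group K))⁻¹) by rw [e]; group, hconj]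
        exact (chevRel certF4 K).UP_le_BS (mul_mem (inv_mem h2) ((chevRel certF4 K).US_mono hSP hz'))
      have h4 := (chevRel certF4 K).BS_inf_UN h3 h1
      rwa [mul_inv_eq_one, mul_eq_left] at h4
    rw [hq1, mul_one] at e
    have hk : v⁻¹ * y * v ∈ (chevRel certF4 K).US
        {r | half chevF4 ≤ (r : ℕ) ∧ (chevRel certF4 K).nsPerm n⁻¹ r ∈
          rSet chevF4 auxF4 (0 : Fin chevF4.rank → ℝ) 0} := by
      rw [← hconj, e]
      obtain ⟨a, ha⟩ := (chevRel certF4 K).isMon_nsPerm n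
      refine Rel.IsMon.conj_mem_US _ ha (fun r hr => show _ ∧ _ from ⟨hr.2, ?_⟩) hp
      rw [Rel.rSet_zero (chevRel certF4 K), map_inv, Equiv.Perm.coe_inv, Equiv.symm_apply_apply]
      exact hr.1
    have h1 := (chevRel certF4 K).US_inf_closed (posClosed_of_chk hSc)
      ((chevRel certF4 K).keep_closed n⁻¹ 0 le_rfl) hz' hk
    have h2 : u * y * u⁻¹ ∈ (chevRel certF4 K).US {r : Fin chevF4.nroots |
        (decide (half chevF4 ≤ (r : ℕ)) && S.contains (wordAct auxF4 L (r : ℕ))) = true} := by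
      obtain ⟨a, ha⟩ := (chevRel certF4 K).isMon_nsPerm n⁻¹
      have := Rel.IsMon.conj_mem_US _ ha (T := {r : Fin chevF4.nroots |
        (decide (half chevF4 ≤ (r : ℕ)) && S.contains (wordAct auxF4 L (r : ℕ))) = true}) (fun r hr => ?_) h1
      · rw [InvMemClass.coe_inv, inv_inv, ← hconj] at this
        simpa [mul_assoc] using this
      · obtain ⟨hrS, hrp, hrk⟩ := hr
        rw [Rel.rSet_zero (chevRel certF4 K)] at hrk
        rw [Set.mem_setOf_eq, Bool.and_eq_true, decide_eq_true_iff, ← hact, map_inv, Equiv.Perm.coe_inv,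
          Equiv.apply_symm_apply]
        rw [map_inv, Equiv.Perm.coe_inv] at hrk
        exact ⟨hrk, hrS⟩
    have h3 := (chevRel certF4 K).US_inf_closed (posClosed_of_chk hSc) (posClosed_of_chk hB) hz h2
    have h4 : u * y * u⁻¹ ∈ (chevRel certF4 K).US
        {r : Fin chevF4.nroots | (S.contains (r : ℕ) && !Nat.beq (r : ℕ) r0) = true} := by
      refine (chevRel certF4 K).US_mono (fun r hr => ?_) h3
      obtain ⟨hr1, hr2⟩ := hr
      rw [Set.mem_setOf_eq] at hr1 hr2
      rw [Bool.and_eq_true] at hr2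
      simp only [Set.mem_setOf_eq, Bool.and_eq_true, Bool.not_eq_true']
      refine ⟨hr1, ?_⟩
      cases hb : Nat.beq (r : ℕ) r0
      · rfl
      · rw [nat_beq_iff.1 hb] at hr2
        rw [hr2.2] at hout
        exact hout
    have h5 : (chevRel certF4 K).xe r0 t ∈ (chevRel certF4 K).US
        {r : Fin chevF4.nroots | (S.contains (r : ℕ) && !Nat.beq (r : ℕ) r0) = true} := by
      have := mul_mem (mul_mem (inv_mem d1) h4) (inv_mem hc)
      rw [hy, hR] at this
      simpa [mul_assoc] using this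
    obtain ⟨f, hf, e5⟩ := (chevRel certF4 K).exists_oprod_closed (posClosed_of_chk hNc) h5
    have hr0p : half chevF4 ≤ r0 := hSP (show (⟨r0, hr0⟩ : Fin chevF4.nroots) ∈ _ from hr0S)
    have hn := certF4.nroots_eq
    have e6 : (chevRel certF4 K).oprod (half chevF4) (half chevF4) (fun r => if r = r0 then t else 0) =
        (chevRel certF4 K).xe r0 t := by
      unfold Rel.oprod
      rw [List.prod_map_eq_pow_single r0, List.count_eq_one_of_mem List.nodup_range'
        (List.mem_range'_1.2 ⟨hr0p, by omega⟩), pow_one]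
      · simp
      intro r hr _
      show (chevRel certF4 K).xe r (if r = r0 then t else 0) = 1
      rw [if_neg hr, Rel.xe_zero]
    have h6 := (chevRel certF4 K).oprod_inj (half chevF4) (half chevF4) (fun r => if r = r0 then t else 0) f le_rfl
      (by omega) (by rw [e6, ← e5]) r0 hr0p (by omega)
    rw [if_pos rfl, hf r0 (fun _ hm => by simp at hm)] at h6
    exact ht h6
  have hnP : (n : ↥(chevF4.group K)) ∈ (chevRel certF4 K).PJ (orbSet (twF4 hK).orb k) := by
    rcases hgoal with h1 | h1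
    · exact Subgroup.mem_sup_left ((chevRel certF4 K).HS_le_BS ((chevRel certF4 K).mem_HS_of_nsPerm h1))
    · have hH : ((n * ((twF4 hK).nJ k)⁻¹ : (chevRel certF4 K).NS) : ↥(chevF4.group K)) ∈ (chevRel certF4 K).HS :=
        (chevRel certF4 K).mem_HS_of_nsPerm (by rw [map_mul, map_inv, h1, mul_inv_cancel])
      have := mul_mem (Subgroup.mem_sup_left ((chevRel certF4 K).HS_le_BS hH) :
        _ ∈ (chevRel certF4 K).PJ (orbSet (twF4 hK).orb k)) ((twF4 hK).nJ_PJ k)
      simpa [Rel.PJ] using this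
  rw [hgn]
  exact mul_mem (mul_mem (Subgroup.mem_sup_left ((chevRel certF4 K).UP_le_BS hv)) hnP)
    (Subgroup.mem_sup_left ((chevRel certF4 K).UP_le_BS hu'))


/-- the number of elements of the two parabolic subgroups -/
theorem dvd_card_parabolic (k : Fin (twF4 hK).κ) : ∃ e, (e = 1 ∨ e = 2) ∧
    Nat.card ↥((twF4 hK).P1 ⊓ (chevRel certF4 K).PJ (orbSet (twF4 hK).orb k)) =
      (2 ^ (2 * m + 1)) ^ 12 * (2 ^ (2 * m + 1) - 1) ^ 2 * ((2 ^ (2 * m + 1)) ^ e + 1) := by
  haveI := (chevRel certF4 K).Finite_of_field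
  obtain ⟨e, he, hc⟩ := classCardF4 hK k
  refine ⟨e, ?_, ?_⟩
  · obtain ⟨l0, l1⟩ := classF4
    have h : (classList chevF4 auxF4 orbLF4 (k : ℕ)).length = 2 * e :=
      (class_ncard orbF4_ho k certF4).symm.trans he
    have hk : (k : ℕ) < 2 := k.2
    rcases Nat.lt_succ_iff.1 hk |>.lt_or_eq with h0 | h0
    · rw [Nat.lt_one_iff.1 h0, l0] at h
      simp at h; omega
    · rw [h0, l1] at h
      simp at h; omega
  · rw [(twF4 hK).card_P1_inf_PJ, card_torusF4 hK, hc]
    rw [twF4_P1 hK, card_UP1 hK]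

theorem primes_of_mem_parabolic {g : ↥(chevF4.group K)} (hg : g ∈ (twF4 hK).P1) {k : Fin (twF4 hK).κ}
    (hP : g ∈ (chevRel certF4 K).PJ (orbSet (twF4 hK).orb k)) {p : ℕ} (hp : p.Prime) (hd : p ∣ orderOf g) :
    p ∣ 2 ^ (2 * m + 1) * ((2 ^ (2 * m + 1)) ^ 4 - 1) := by
  obtain ⟨e, he, hc⟩ := dvd_card_parabolic hK k
  have hdvd : orderOf g ∣ Nat.card ↥((twF4 hK).P1 ⊓ (chevRel certF4 K).PJ (orbSet (twF4 hK).orb k)) :=
    Subgroup.orderOf_dvd_natCard _ (Subgroup.mem_inf.2 ⟨hg, hP⟩)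
  have h := hd.trans hdvd
  rw [hc] at h
  obtain ⟨q, hq⟩ : ∃ q, q = 2 ^ (2 * m + 1) := ⟨_, rfl⟩
  rw [← hq] at h ⊢
  have hq1 : 1 ≤ q := hq ▸ Nat.one_le_two_pow
  obtain ⟨n, rfl⟩ : ∃ n, q = n + 1 := ⟨q - 1, by omega⟩
  have e4 : (n + 1) ^ 4 - 1 = n * ((n + 1 + 1) * ((n + 1) ^ 2 + 1)) := by
    rw [show (n + 1) ^ 4 = n * ((n + 1 + 1) * ((n + 1) ^ 2 + 1)) + 1 by ring, Nat.add_sub_cancel]
  rcases (Nat.Prime.dvd_mul hp).1 h with h | h
  · rcases (Nat.Prime.dvd_mul hp).1 h with h | h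
    · exact dvd_mul_of_dvd_left (hp.dvd_of_dvd_pow h) _
    · rw [Nat.add_sub_cancel] at h
      exact dvd_mul_of_dvd_right (e4 ▸ dvd_mul_of_dvd_left (hp.dvd_of_dvd_pow h) _) _
  · refine dvd_mul_of_dvd_right (e4 ▸ dvd_mul_of_dvd_right ?_ _) _
    rcases he with rfl | rfl
    · exact dvd_mul_of_dvd_left (by simpa using h) _
    · exact dvd_mul_of_dvd_right h _

/-- every involution is conjugate to one of two elements of the highest classes -/
theorem exists_top {x : ↥(chevF4.group K)} (hx : x ∈ P1 m) (h2 : x * x = 1) (hx1 : x ≠ 1) :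
    ∃ c ∈ P1 (K := K) m, MulAut.conj c x = C7 (frF4 hK) 1 ∨ MulAut.conj c x = C6 (frF4 hK) 0 1 := by
  haveI := charF4 hK
  obtain ⟨k2, k3, k4, k5, k6, k7⟩ := chkImgs
  have hA := (memF4 hK).mnA
  have hB := (memF4 hK).mnB
  rcases exists_rep hK hx h2 with h | ⟨c, hc, e⟩ | ⟨c, hc, e⟩
  · exact absurd h hx1
  · refine ⟨nB * (nA * (nB * c)), mul_mem hB (mul_mem hA (mul_mem hB hc)), Or.inl ?_⟩
    simp only [map_mul, MulAut.mul_apply]
    rw [show MulAut.conj c x = C0 (frF4 hK) 1 from e, nw_cA _ k3, nw_cA _ k5, nw_cA _ k7]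
  · refine ⟨nA * (nB * (nA * c)), mul_mem hA (mul_mem hB (mul_mem hA hc)), Or.inr ?_⟩
    simp only [map_mul, MulAut.mul_apply]
    rw [show MulAut.conj c x = C1 (frF4 hK) 0 1 from e, nw_cB _ k2, nw_cB _ k4, nw_cB _ k6]

theorem primes_of_commute {x y : ↥(chevF4.group K)} (hx : x ∈ P1 m) (h2 : x * x = 1) (hx1 : x ≠ 1)
    (hy : y ∈ P1 m) (hc : Commute x y) {p : ℕ} (hp : p.Prime) (hd : p ∣ orderOf y) :
    p ∣ 2 ^ (2 * m + 1) * ((2 ^ (2 * m + 1)) ^ 4 - 1) := by
  haveI := charF4 hK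
  obtain ⟨c, hc1, hrep⟩ := exists_top hK hx h2 hx1
  have hy' : MulAut.conj c y ∈ (twF4 hK).P1 := by
    rw [twF4_P1]; exact mul_mem (mul_mem hc1 hy) (inv_mem hc1)
  have hcom : Commute (MulAut.conj c x) (MulAut.conj c y) := hc.map (MulAut.conj c)
  have hord : orderOf (MulAut.conj c y) = orderOf y := MulEquiv.orderOf_eq (MulAut.conj c) y
  rw [← hord] at hd
  have z : ∀ r, (chevRel certF4 K).xe r (0 : K) = 1 := (chevRel certF4 K).xe_zero
  rcases hrep with h | h
  · have e : C7 (frF4 hK) (1 : K) = (chevRel certF4 K).xe 39 1 * (chevRel certF4 K).xe 45 1 := by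
      simp only [C7, cA, map_one]; rfl
    rw [h, e] at hcom
    refine primes_of_mem_parabolic hK hy' (k := (0 : Fin 2)) (cent_le hK (k := (0 : Fin 2)) cent39 (by decide +kernel)
      one_ne_zero ((chevRel certF4 K).xe_mem_US (r := ⟨45, by decide +kernel⟩) ?_ _) hy' hcom.symm.eq) hp hd
    show _ = true
    decide +kernel
  · have e : C6 (frF4 hK) (0 : K) 1 = (chevRel certF4 K).xe 44 1 * (chevRel certF4 K).xe 47 1 := by
      simp only [C6, cB, X, map_zero, map_one, zero_mul, zero_add, one_pow]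
      show (chevRel certF4 K).xe 29 0 * ((chevRel certF4 K).xe 41 0 * _) = _
      rw [z, z, one_mul, one_mul]; rfl
    rw [h, e] at hcom
    refine primes_of_mem_parabolic hK hy' (k := (1 : Fin 2)) (cent_le hK (k := (1 : Fin 2)) cent44 (by decide +kernel)
      one_ne_zero ((chevRel certF4 K).xe_mem_US (r := ⟨47, by decide +kernel⟩) ?_ _) hy' hcom.symm.eq) hp hd
    show _ = true
    decide +kernel

end CfsgLib.Lie.Chev.TwGroups.F4Inv
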